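import Cfsg.Agent.Lib.ClassSizes.OddTransitive.Basic
import Mathlib.FieldTheory.Finite.Basic
import Mathlib.GroupTheory.SpecificGroups.Cyclic

/-!
# Automisers of field-spanning normal subgroups are cyclic

If the abelian normal subgroup `C` of a transitive group spans a field, conjugation gives a map to
the cyclic Galois group of that field with kernel the centraliser of `C`.

Owner: helper16.
-/

set_option autoImplicit false

namespace CfsgLib.OddTransitive

variable {D E : Type*} [Group D] [Finite D] [AddCommGroup E] [Finite E] [Nontrivial E]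
  [DistribMulAction D E]

theorem conj_mem_span (C : Subgroup D) [C.Normal] (g : D) :
    ∀ r ∈ span (E := E) (C : Set D), th g * r * th g⁻¹ ∈ span (E := E) (C : Set D) := by
  intro r hr
  have e1 : th (E := E) g⁻¹ * th g = 1 := by rw [← map_mul, inv_mul_cancel, map_one]
  induction hr using Subring.closure_induction with
  | mem r hr =>
    obtain ⟨c, hc, rfl⟩ := hr
    rw [← map_mul, ← map_mul]
    exact th_mem_span (Subgroup.Normal.conj_mem inferInstance c hc g)
  | zero => rw [mul_zero, zero_mul]; exact zero_mem _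
  | one => rw [mul_one, ← map_mul, mul_inv_cancel, map_one]; exact one_mem _
  | add x y _ _ hx hy => rw [mul_add, add_mul]; exact add_mem hx hy
  | neg x _ hx => rw [mul_neg, neg_mul]; exact neg_mem hx
  | mul x y _ _ hx hy =>
    have e : th g * (x * y) * th g⁻¹ = th g * x * th g⁻¹ * (th g * y * th g⁻¹) := by
      simp only [mul_assoc]
      rw [← mul_assoc (th g⁻¹) (th g), e1, one_mul]
    rw [e]
    exact mul_mem hx hy

/-- The automiser of `C` in any subgroup is cyclic. -/
theorem exists_generator (hE : ∀ e : E, 2 • e = 0)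
    (htrans : ∀ a b : E, a ≠ 0 → b ≠ 0 → ∃ d : D, d • a = b) (C : Subgroup D) [hCn : C.Normal]
    (hC : ∀ g ∈ C, ∀ h ∈ C, g * h = h * g) (hinjC : ∀ c ∈ C, th (E := E) c = 1 → c = 1)
    (V : Subgroup D) :
    ∃ v ∈ V, (V ⊓ Subgroup.centralizer (C : Set D)) ⊔ Subgroup.closure {v} = V := by
  classical
  haveI := finite_end (E := E)
  have hinj := inj_of_normal htrans C hC
  obtain ⟨e₀, he₀⟩ := exists_ne (0 : E)
  let R := span (E := E) (C : Set D)
  letI : CommRing R :=
    { (inferInstance : Ring R) with mul_comm := fun a b => Subtype.ext (span_comm hC _ a.2 _ b.2) }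
  haveI : NoZeroDivisors R := ⟨fun {a b} h => by
    have h' : (a : AddMonoid.End E) ((b : AddMonoid.End E) e₀) = 0 :=
      DFunLike.congr_fun (congrArg Subtype.val h) e₀
    by_cases hbv : (b : AddMonoid.End E) e₀ = 0
    · exact Or.inr (Subtype.ext (hinj b b.2 e₀ he₀ hbv))
    · exact Or.inl (Subtype.ext (hinj a a.2 _ hbv h'))⟩
  haveI : Nontrivial R :=
    ⟨⟨0, 1, fun h => he₀ (DFunLike.congr_fun (congrArg Subtype.val h) e₀).symm⟩⟩
  haveI : IsDomain R := NoZeroDivisors.to_isDomain _
  letI : Fintype R := Fintype.ofFinite R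
  letI : Field R := Fintype.fieldOfDomain R
  have h2R : (2 : R) = 0 := Subtype.ext (DFunLike.ext _ _ fun e => by
    show ((2 : R) : AddMonoid.End E) e = 0
    rw [show (2 : R) = 1 + 1 by norm_num]
    show e + e = 0
    rw [← two_nsmul, hE])
  haveI : CharP R 2 := (CharP.charP_iff_prime_eq_zero Nat.prime_two).2 (by exact_mod_cast h2R)
  letI : Algebra (ZMod 2) R := ZMod.algebra R 2
  have hinv : ∀ (g : D) (r : AddMonoid.End E), th g⁻¹ * (th g * r * th g⁻¹) * th g = r := by
    intro g r
    have e1 : th (E := E) g⁻¹ * th g = 1 := by rw [← map_mul, inv_mul_cancel, map_one]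
    simp only [mul_assoc]
    rw [e1, mul_one, ← mul_assoc, e1, one_mul]
  let σ : D → (R ≃+* R) := fun g =>
    { toFun := fun r => ⟨th g * (r : AddMonoid.End E) * th g⁻¹, conj_mem_span C g _ r.2⟩
      invFun := fun r => ⟨th g⁻¹ * (r : AddMonoid.End E) * th g, by
        simpa using conj_mem_span C g⁻¹ (r : AddMonoid.End E) r.2⟩
      left_inv := fun r => Subtype.ext (hinv g r)
      right_inv := fun r => Subtype.ext (by
        show th (E := E) g * (th (E := E) g⁻¹ * (r : AddMonoid.End E) * th (E := E) g) * th (E := E) g⁻¹ =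
          (r : AddMonoid.End E)
        have := hinv g⁻¹ (r : AddMonoid.End E)
        rwa [inv_inv] at this)
      map_mul' := fun r r' => Subtype.ext (by
        show th g * ((r : AddMonoid.End E) * (r' : AddMonoid.End E)) * th g⁻¹ =
          th g * (r : AddMonoid.End E) * th g⁻¹ * (th g * (r' : AddMonoid.End E) * th g⁻¹)
        have e1 : th (E := E) g⁻¹ * th g = 1 := by rw [← map_mul, inv_mul_cancel, map_one]
        simp only [mul_assoc]
        rw [← mul_assoc (th g⁻¹) (th g), e1, one_mul])
      map_add' := fun r r' => Subtype.ext (by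
        show th g * ((r : AddMonoid.End E) + (r' : AddMonoid.End E)) * th g⁻¹ =
          th g * (r : AddMonoid.End E) * th g⁻¹ + th g * (r' : AddMonoid.End E) * th g⁻¹
        rw [mul_add, add_mul]) }
  have halg : ∀ (g : D) (z : ZMod 2), σ g (algebraMap (ZMod 2) R z) = algebraMap (ZMod 2) R z :=
    fun g z => RingHom.congr_fun (Subsingleton.elim ((σ g).toRingHom.comp (algebraMap (ZMod 2) R))
      (algebraMap (ZMod 2) R)) z
  let Ψ : V →* (R ≃ₐ[ZMod 2] R) :=
    { toFun := fun g => AlgEquiv.ofRingEquiv (f := σ (g : D)) (halg g)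
      map_one' := AlgEquiv.ext fun r => Subtype.ext (by
        rw [AlgEquiv.one_apply]
        show th (E := E) ((1 : V) : D) * (r : AddMonoid.End E) * th ((1 : V) : D)⁻¹ =
          (r : AddMonoid.End E)
        rw [OneMemClass.coe_one, inv_one, map_one, one_mul, mul_one])
      map_mul' := fun g h => AlgEquiv.ext fun r => Subtype.ext (by
        show th (E := E) ((g : D) * (h : D)) * (r : AddMonoid.End E) * th ((g : D) * (h : D))⁻¹ =
          th (g : D) * (th (h : D) * (r : AddMonoid.End E) * th (h : D)⁻¹) * th (g : D)⁻¹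
        simp only [mul_inv_rev, map_mul, mul_assoc]) }
  haveI : IsCyclic Ψ.range := inferInstance
  obtain ⟨⟨_, v, rfl⟩, hgen⟩ := IsCyclic.exists_generator (α := Ψ.range)
  refine ⟨v, v.2, le_antisymm (sup_le inf_le_left ((Subgroup.closure_le _).2
    (Set.singleton_subset_iff.2 v.2))) fun w hw => ?_⟩
  obtain ⟨i, hi⟩ := hgen ⟨Ψ ⟨w, hw⟩, ⟨_, rfl⟩⟩
  have hi' : Ψ v ^ i = Ψ ⟨w, hw⟩ := congrArg Subtype.val hi
  set u : V := ⟨w, hw⟩ * (v ^ i)⁻¹ with hu
  have hΨu : Ψ u = 1 := by rw [hu, map_mul, map_inv, map_zpow, hi', mul_inv_cancel]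
  have hcent : (u : D) ∈ Subgroup.centralizer (C : Set D) := by
    refine Subgroup.mem_centralizer_iff.2 fun c hc => ?_
    have h1 := congrArg Subtype.val (AlgEquiv.congr_fun hΨu (⟨th c, th_mem_span hc⟩ : R))
    have h2 : th (E := E) (u : D) * th c * th (u : D)⁻¹ = th c := h1
    rw [← map_mul, ← map_mul] at h2
    have hmem : (u : D) * c * (u : D)⁻¹ * c⁻¹ ∈ C := mul_mem (hCn.conj_mem c hc u) (inv_mem hc)
    have h3 := hinjC _ hmem (by rw [map_mul, h2, ← map_mul, mul_inv_cancel, map_one])
    exact (mul_inv_eq_iff_eq_mul.1 (mul_inv_eq_one.1 h3)).symm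
  have hw' : w = (u : D) * (v : D) ^ i := by
    rw [hu]; simp [mul_assoc]
  rw [hw']
  exact mul_mem (Subgroup.mem_sup_left ⟨u.2, hcent⟩)
    (Subgroup.mem_sup_right (zpow_mem (Subgroup.subset_closure (Set.mem_singleton _)) i))

end CfsgLib.OddTransitive
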