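import Cfsg.Agent.Lib.ClassSizes.OddTransitive.Inverted
import Cfsg.Agent.Lib.ClassSizes.OddTransitive.Galois
import Cfsg.Agent.Lib.Lie.RankOneNilpotent
import Cfsg.Agent.S1127

/-!
# The inverted elements of a rank one setup form a cyclic normal subgroup of the two-point stabiliser

`D` acts on the involutions of `G_a` together with `1` as an odd order group transitive on the
nonzero vectors; the involution `t` inverts the Fitting subgroup of the image, which therefore
contains the images of the inverted elements.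

Owner: helper16.
-/

set_option autoImplicit false
set_option linter.unusedSectionVars false

namespace CfsgLib.OddTransitive.RankOne

open MulAction CfsgLib.Lie.RankOne

variable {G Ω : Type*} [Group G] [MulAction G Ω] [Finite G] [FaithfulSMul G Ω] {a : Ω} {t : G}
  {Q : Subgroup G}

local notation "𝔇" => ((stabilizer G a ⊓ stabilizer G (t • a)) : Subgroup G)
local notation "𝔎" => Cfsg.invertedBy (stabilizer G a ⊓ stabilizer G (t • a)) t
local notation "𝔍" => Cfsg.involutionsIn (stabilizer G a : Set G)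

variable (hS : Cfsg.IsRankOneSetup G Ω a t Q)
  (h2 : ∃ x y : G, x ≠ 1 ∧ y ≠ 1 ∧ x ≠ y ∧ x * x = 1 ∧ y * y = 1 ∧ x * y = y * x)

/-- The involutions of the stabiliser with the identity. -/
def involutionGroup : Subgroup G where
  carrier := {x | x = 1 ∨ x ∈ 𝔍}
  one_mem' := Or.inl rfl
  mul_mem' := fun {x y} hx hy => by
    rcases hx with rfl | hx
    · rwa [one_mul]
    rcases hy with rfl | hy
    · rw [mul_one]; exact Or.inr hx
    exact J_mul hS h2 hx hy
  inv_mem' := fun {x} hx => by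
    rcases hx with rfl | hx
    · exact Or.inl inv_one
    · exact Or.inr (by rwa [inv_eq_of_mul_eq_one_right hx.2.2])

theorem mem_involutionGroup {x : G} : x ∈ involutionGroup hS h2 ↔ x = 1 ∨ x ∈ 𝔍 := Iff.rfl

/-- The vector space. -/
abbrev Vec := Additive ↥(involutionGroup hS h2)

theorem sq_eq_one (x : involutionGroup hS h2) : x * x = 1 := by
  rcases x.2 with h | h
  · exact Subtype.ext (by simp [h])
  · exact Subtype.ext h.2.2

instance : AddCommGroup (Vec hS h2) :=
  { (inferInstance : AddGroup (Vec hS h2)) with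
    add_comm := fun x y => by
      apply Additive.toMul.injective
      have hx := sq_eq_one hS h2 (Additive.toMul x)
      have hy := sq_eq_one hS h2 (Additive.toMul y)
      have hxy := sq_eq_one hS h2 (Additive.toMul x * Additive.toMul y)
      show Additive.toMul x * Additive.toMul y = Additive.toMul y * Additive.toMul x
      rw [← inv_eq_of_mul_eq_one_right hxy, mul_inv_rev, inv_eq_of_mul_eq_one_right hx,
        inv_eq_of_mul_eq_one_right hy] }

theorem conj_mem {d : G} (hd : d ∈ 𝔇) {x : G} (hx : x ∈ involutionGroup hS h2) :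
    d * x * d⁻¹ ∈ involutionGroup hS h2 := by
  rcases hx with rfl | hx
  · exact Or.inl (by simp)
  · exact Or.inr (conj_mem_J hS hx (mem_D.1 hd).1)

instance : DistribMulAction ↥𝔇 (Vec hS h2) where
  smul d x := Additive.ofMul ⟨(d : G) * (Additive.toMul x : involutionGroup hS h2) * (d : G)⁻¹,
    conj_mem hS h2 d.2 (Additive.toMul x).2⟩
  one_smul x := by
    apply Additive.toMul.injective
    refine Subtype.ext ?_
    show ((1 : 𝔇) : G) * (Additive.toMul x : involutionGroup hS h2) * ((1 : 𝔇) : G)⁻¹ = _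
    simp
  mul_smul d e x := by
    apply Additive.toMul.injective
    refine Subtype.ext ?_
    show ((d * e : 𝔇) : G) * (Additive.toMul x : involutionGroup hS h2) * ((d * e : 𝔇) : G)⁻¹ =
      (d : G) * ((e : G) * (Additive.toMul x : involutionGroup hS h2) * (e : G)⁻¹) * (d : G)⁻¹
    simp [mul_assoc]
  smul_zero d := by
    apply Additive.toMul.injective
    refine Subtype.ext ?_
    show (d : G) * 1 * (d : G)⁻¹ = 1
    simp
  smul_add d x y := by
    apply Additive.toMul.injective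
    refine Subtype.ext ?_
    show (d : G) * ((Additive.toMul x : involutionGroup hS h2) *
        (Additive.toMul y : involutionGroup hS h2)) * (d : G)⁻¹ =
      ((d : G) * (Additive.toMul x : involutionGroup hS h2) * (d : G)⁻¹) *
        ((d : G) * (Additive.toMul y : involutionGroup hS h2) * (d : G)⁻¹)
    simp [mul_assoc]

theorem smul_ofMul (d : 𝔇) (x : involutionGroup hS h2) :
    ((Additive.toMul (d • Additive.ofMul x) : involutionGroup hS h2) : G) = (d : G) * x * (d : G)⁻¹ :=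
  rfl

instance : Finite (Vec hS h2) := inferInstanceAs (Finite ↥(involutionGroup hS h2))

theorem ofMul_ne_zero {s : G} (hs : s ∈ 𝔍) :
    Additive.ofMul (⟨s, Or.inr hs⟩ : involutionGroup hS h2) ≠ 0 := fun h =>
  hs.2.1 (congrArg Subtype.val (Additive.ofMul.injective h))

theorem vec_nontrivial : Nontrivial (Vec hS h2) := by
  obtain ⟨s, hs⟩ := exists_involution hS
  exact ⟨⟨_, 0, ofMul_ne_zero hS h2 hs⟩⟩

theorem two_nsmul_eq_zero (x : Vec hS h2) : 2 • x = 0 := by
  rw [two_nsmul]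
  exact Additive.toMul.injective (sq_eq_one hS h2 _)

theorem transitive (x y : Vec hS h2) (hx : x ≠ 0) (hy : y ≠ 0) : ∃ d : 𝔇, d • x = y := by
  have hx' : ((Additive.toMul x : involutionGroup hS h2) : G) ∈ 𝔍 :=
    (Additive.toMul x).2.resolve_left fun h => hx (Additive.toMul.injective (Subtype.ext h))
  have hy' : ((Additive.toMul y : involutionGroup hS h2) : G) ∈ 𝔍 :=
    (Additive.toMul y).2.resolve_left fun h => hy (Additive.toMul.injective (Subtype.ext h))
  obtain ⟨k, ⟨hk, he⟩, -⟩ := exists_unique_K hS hx' hy'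
  refine ⟨⟨k⁻¹, inv_mem hk.1⟩, Additive.toMul.injective (Subtype.ext ?_)⟩
  show k⁻¹ * _ * k⁻¹⁻¹ = _
  rw [inv_inv, he]

/-- The kernel of the action. -/
abbrev Wker : Subgroup ↥𝔇 := (th (D := ↥𝔇) (E := Vec hS h2)).ker

theorem mem_Wker {d : 𝔇} :
    d ∈ Wker hS h2 ↔ ∀ s ∈ 𝔍, (d : G) * s = s * (d : G) := by
  rw [MonoidHom.mem_ker]
  constructor
  · intro h s hs
    have h1 := DFunLike.congr_fun h (Additive.ofMul (⟨s, Or.inr hs⟩ : involutionGroup hS h2))
    have h2 := congrArg (fun x => ((Additive.toMul x : involutionGroup hS h2) : G)) h1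
    exact mul_inv_eq_iff_eq_mul.1 h2
  · intro h
    refine DFunLike.ext _ _ fun x => Additive.toMul.injective (Subtype.ext ?_)
    show (d : G) * (Additive.toMul x : involutionGroup hS h2) * (d : G)⁻¹ =
      ((Additive.toMul x : involutionGroup hS h2) : G)
    rcases (Additive.toMul x).2 with h1 | h1
    · rw [h1]; simp
    · rw [h _ h1, mul_inv_cancel_right]

include hS h2 in
theorem commute_of_mem_Wker {d : 𝔇} (hd : d ∈ Wker hS h2) :
    (d : G) * t = t * (d : G) ∧ ∀ k ∈ 𝔎, (d : G) * k = k * (d : G) := by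
  have h1 : (d : G) ∈ 𝔇 ⊓ Subgroup.centralizer 𝔍 := Subgroup.mem_inf.2 ⟨d.2,
    Subgroup.mem_centralizer_iff.2 fun s hs => ((mem_Wker hS h2).1 hd s hs).symm⟩
  rw [← (Cfsg.Agent.S1127.result hS).2] at h1
  obtain ⟨h3, hK⟩ := Subgroup.mem_inf.1 h1
  exact ⟨Subgroup.mem_centralizer_singleton_iff.1 (Subgroup.mem_inf.1 h3).2,
    fun k hk => (Subgroup.mem_centralizer_iff.1 hK k hk).symm⟩

include hS h2 in
theorem K_mem_Wker {k : 𝔇} (hk : (k : G) ∈ 𝔎) (h : k ∈ Wker hS h2) : k = 1 := by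
  obtain ⟨s, hs⟩ := exists_involution hS
  refine Subtype.ext (K_eq_one hS hk hs ?_)
  rw [mul_assoc, ← (mem_Wker hS h2).1 h s hs, inv_mul_cancel_left]

include hS h2 in
/-- The inverted elements are the carrier of a cyclic subgroup. -/
theorem exists_cyclic :
    ∃ C : Subgroup G, (C : Set G) = 𝔎 ∧ IsCyclic C ∧ ∀ d ∈ 𝔇, ∀ c ∈ C, d * c * d⁻¹ ∈ C := by
  haveI := vec_nontrivial hS h2
  obtain ⟨⟨s, r⟩, ⟨hs, hr, he⟩, -⟩ := structure_equation hS
  dsimp only at hs hr he
  have htD : ∀ d ∈ 𝔇, t * d * t⁻¹ ∈ 𝔇 := fun d hd => by rw [t_inv hS]; exact tDt hS hd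
  have hinv : ∀ d : G, t * (t * d * t⁻¹) * t⁻¹ = d := fun d => by
    rw [t_inv hS]; simp [mul_assoc, hS.mul_self, t_mul_t_mul hS]
  let σ : ↥𝔇 ≃* ↥𝔇 :=
    { toFun := fun d => ⟨t * d * t⁻¹, htD d d.2⟩
      invFun := fun d => ⟨t * d * t⁻¹, htD d d.2⟩
      left_inv := fun d => Subtype.ext (hinv d)
      right_inv := fun d => Subtype.ext (hinv d)
      map_mul' := fun d e => Subtype.ext (by
        show t * ((d : G) * e) * t⁻¹ = t * d * t⁻¹ * (t * e * t⁻¹)
        group) }
  have hfix : ∀ v : ↥𝔇, (v : G) * t = t * (v : G) → σ v = v := fun v hv => Subtype.ext (by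
    show t * (v : G) * t⁻¹ = v
    rw [← hv, mul_inv_cancel_right])
  have hmemK : ∀ k : ↥𝔇, σ k = k⁻¹ → (k : G) ∈ 𝔎 := fun k hk => ⟨k.2, congrArg Subtype.val hk⟩
  obtain ⟨C, hC, hcyc, hn⟩ := CfsgLib.OddTransitive.inverted_subgroup (D := ↥𝔇) (E := Vec hS h2)
    hS.odd_card (two_nsmul_eq_zero hS h2) (transitive hS h2) σ (fun d => Subtype.ext (hinv d))
    (fun d hd => by
      obtain ⟨h1, h3⟩ := commute_of_mem_Wker hS h2 (MonoidHom.mem_ker.2 hd)
      exact ⟨hfix d h1, fun k hk => Subtype.ext (h3 k (hmemK k hk))⟩)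
    (ofMul_ne_zero hS h2 hs)
    (fun d => by
      obtain ⟨v, k, hv, hvt, hk, hde⟩ := D_split hS d.2
      refine ⟨⟨v, hv⟩, ⟨k, hk.1⟩, hfix _ hvt, Subtype.ext hk.2, ?_, Subtype.ext hde⟩
      refine Additive.toMul.injective (Subtype.ext ?_)
      show v * s * v⁻¹ = s
      rw [(centralizer_distinguished hS hs hr he hv).1 hvt, mul_inv_cancel_right])
  refine ⟨C.map (𝔇).subtype, ?_, ?_, ?_⟩
  · ext x
    constructor
    · rintro ⟨k, hk, rfl⟩
      exact hmemK k ((hC k).1 hk)
    · exact fun hx => ⟨⟨x, hx.1⟩, (hC _).2 (Subtype.ext hx.2), rfl⟩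
  · haveI := hcyc
    exact isCyclic_of_surjective (C.equivMapOfInjective (𝔇).subtype Subtype.val_injective)
      (C.equivMapOfInjective (𝔇).subtype Subtype.val_injective).surjective
  · rintro d hd _ ⟨c, hc, rfl⟩
    exact ⟨⟨d, hd⟩ * c * ⟨d, hd⟩⁻¹, hn.conj_mem c hc ⟨d, hd⟩, rfl⟩

end CfsgLib.OddTransitive.RankOne

namespace CfsgLib.OddTransitive.RankOne

open MulAction CfsgLib.Lie.RankOne

variable {G Ω : Type*} [Group G] [MulAction G Ω] [Finite G] [FaithfulSMul G Ω] {a : Ω} {t : G}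
  {Q : Subgroup G}

local notation "𝔇" => ((stabilizer G a ⊓ stabilizer G (t • a)) : Subgroup G)
local notation "𝔎" => Cfsg.invertedBy (stabilizer G a ⊓ stabilizer G (t • a)) t

variable (hS : Cfsg.IsRankOneSetup G Ω a t Q)
  (h2 : ∃ x y : G, x ≠ 1 ∧ y ≠ 1 ∧ x ≠ y ∧ x * x = 1 ∧ y * y = 1 ∧ x * y = y * x)

include hS h2 in
/-- The centraliser of `t` in `D` is cyclic modulo the centraliser of the inverted elements. -/
theorem exists_generator :
    ∃ v ∈ 𝔇 ⊓ Subgroup.centralizer {t},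
      (𝔇 ⊓ Subgroup.centralizer {t} ⊓ Subgroup.centralizer 𝔎) ⊔ Subgroup.closure {v} =
        𝔇 ⊓ Subgroup.centralizer {t} := by
  haveI := vec_nontrivial hS h2
  obtain ⟨C, hC, hcyc, hn⟩ := exists_cyclic hS h2
  haveI := hcyc
  have hle : C ≤ 𝔇 := fun c hc => ((Set.ext_iff.1 hC c).1 hc).1
  have hcomm : ∀ g ∈ C.subgroupOf 𝔇, ∀ h ∈ C.subgroupOf 𝔇, g * h = h * g := fun g hg h hh => by
    letI : CommGroup C := IsCyclic.commGroup
    have h1 := mul_comm (⟨g, Subgroup.mem_subgroupOf.1 hg⟩ : C) ⟨h, Subgroup.mem_subgroupOf.1 hh⟩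
    exact Subtype.ext (congrArg Subtype.val h1 :)
  haveI : (C.subgroupOf 𝔇).Normal := ⟨fun c hc d => Subgroup.mem_subgroupOf.2 (by
    simpa using hn d d.2 c (Subgroup.mem_subgroupOf.1 hc))⟩
  obtain ⟨v, hv, he⟩ := CfsgLib.OddTransitive.exists_generator (E := Vec hS h2)
    (two_nsmul_eq_zero hS h2) (transitive hS h2) (C.subgroupOf 𝔇) hcomm
    (fun c hc h1 => K_mem_Wker hS h2 ((Set.ext_iff.1 hC c).1 (Subgroup.mem_subgroupOf.1 hc))
      (MonoidHom.mem_ker.2 h1))
    ((Subgroup.centralizer {t}).subgroupOf 𝔇)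
  have hvt : (v : G) ∈ Subgroup.centralizer {t} := Subgroup.mem_subgroupOf.1 hv
  refine ⟨v, ⟨v.2, hvt⟩, le_antisymm (sup_le inf_le_left ((Subgroup.closure_le _).2
    (Set.singleton_subset_iff.2 ⟨v.2, hvt⟩))) ?_⟩
  rintro w ⟨hwD, hwt⟩
  have h1 : (⟨w, hwD⟩ : 𝔇) ∈ (Subgroup.centralizer {t}).subgroupOf 𝔇 :=
    Subgroup.mem_subgroupOf.2 hwt
  rw [← he] at h1
  have h3 : (Subgroup.centralizer {t}).subgroupOf 𝔇 ⊓
      Subgroup.centralizer ((C.subgroupOf 𝔇 : Subgroup 𝔇) : Set 𝔇) ⊔ Subgroup.closure {v} ≤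
      ((𝔇 ⊓ Subgroup.centralizer {t} ⊓ Subgroup.centralizer 𝔎) ⊔
        Subgroup.closure {(v : G)}).comap (𝔇).subtype := by
    refine sup_le (fun x hx => Subgroup.mem_sup_left
      ⟨⟨x.2, Subgroup.mem_subgroupOf.1 hx.1⟩, Subgroup.mem_centralizer_iff.2 fun k hk => ?_⟩)
      ((Subgroup.closure_le _).2 ?_)
    · exact congrArg Subtype.val (Subgroup.mem_centralizer_iff.1 hx.2 ⟨k, hk.1⟩
        (Subgroup.mem_subgroupOf.2 ((Set.ext_iff.1 hC k).2 hk)))
    · exact Set.singleton_subset_iff.2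
        (Subgroup.mem_sup_right (Subgroup.subset_closure (Set.mem_singleton _)))
  exact h3 h1

end CfsgLib.OddTransitive.RankOne
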