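import Cfsg.Agent.Lib.ClassSizes.OddTransitive.LiftChar
import Mathlib.Algebra.Ring.Subring.Basic
import Mathlib.Algebra.Module.End
import Mathlib.RingTheory.IntegralDomain
import Mathlib.FieldTheory.Finite.Basic
import Mathlib.GroupTheory.PGroup

/-!
# Fields spanned by abelian normal subgroups of transitive linear groups

Owner: helper16.
-/

set_option autoImplicit false

namespace CfsgLib.OddTransitive

variable {D E : Type*} [Group D] [AddCommGroup E] [DistribMulAction D E]

/-- The endomorphism given by an element. -/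
def th : D →* AddMonoid.End E := DistribMulAction.toAddMonoidEnd D E

@[simp] theorem th_apply (g : D) (e : E) : th g e = g • e := rfl

theorem end_mul_apply (a b : AddMonoid.End E) (e : E) : (a * b) e = a (b e) := rfl

/-- The subring spanned by a set of elements. -/
def span (s : Set D) : Subring (AddMonoid.End E) := Subring.closure (th (E := E) '' s)

theorem th_mem_span {s : Set D} {g : D} (h : g ∈ s) : th (E := E) g ∈ span (E := E) s :=
  Subring.subset_closure ⟨g, h, rfl⟩

theorem th_injective [FaithfulSMul D E] : Function.Injective (th (D := D) (E := E)) := fun g h e =>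
  FaithfulSMul.eq_of_smul_eq_smul fun v : E => by
    simpa using DFunLike.congr_fun e v

theorem commute_span {s : Set D} {z : AddMonoid.End E} (h : ∀ g ∈ s, Commute z (th g)) :
    ∀ a ∈ span (E := E) s, Commute z a := by
  intro a ha
  induction ha using Subring.closure_induction with
  | mem a ha => obtain ⟨g, hg, rfl⟩ := ha; exact h g hg
  | zero => exact Commute.zero_right z
  | one => exact Commute.one_right z
  | add a b _ _ ha hb => exact ha.add_right hb
  | neg a _ ha => exact ha.neg_right
  | mul a b _ _ ha hb => exact ha.mul_right hb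

theorem span_comm {s : Set D} (hs : ∀ g ∈ s, ∀ h ∈ s, g * h = h * g) :
    ∀ a ∈ span (E := E) s, ∀ b ∈ span (E := E) s, a * b = b * a := by
  intro a ha b hb
  refine commute_span (fun h hh => (commute_span (fun g hg => ?_) a ha).symm) b hb
  exact (Commute.map (hs h hh g hg) (th (E := E)) :)

/-- Nonzero elements of the span are injective. -/
def Inj (s : Set D) : Prop :=
  ∀ a ∈ span (E := E) s, ∀ v : E, v ≠ 0 → a v = 0 → a = 0

theorem Inj.mono {s t : Set D} (h : Inj (E := E) t) (hst : s ⊆ t) : Inj (E := E) s :=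
  fun a ha => h a (Subring.closure_mono (Set.image_mono hst) ha)

variable [Finite E]

theorem finite_end : Finite (AddMonoid.End E) :=
  Finite.of_injective (fun a : AddMonoid.End E => (a : E → E)) DFunLike.coe_injective

/-- An abelian normal subgroup of a transitive group spans a field. -/
theorem inj_of_normal (htrans : ∀ a b : E, a ≠ 0 → b ≠ 0 → ∃ d : D, d • a = b) (B : Subgroup D)
    [B.Normal] (hB : ∀ g ∈ B, ∀ h ∈ B, g * h = h * g) : Inj (E := E) (B : Set D) := by
  classical
  haveI := finite_end (E := E)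
  intro a ha v hv hav
  set R := span (E := E) (B : Set D) with hR
  have hcomm := span_comm (E := E) hB
  have hconj : ∀ g : D, ∀ c ∈ R, th g * c * th g⁻¹ ∈ R := by
    intro g c hc
    induction hc using Subring.closure_induction with
    | mem c hc =>
      obtain ⟨b, hb, rfl⟩ := hc
      rw [← map_mul, ← map_mul]
      exact th_mem_span (Subgroup.Normal.conj_mem inferInstance b hb g)
    | zero => rw [mul_zero, zero_mul]; exact zero_mem R
    | one => rw [mul_one, ← map_mul, mul_inv_cancel, map_one]; exact one_mem R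
    | add c d _ _ hc hd => rw [mul_add, add_mul]; exact add_mem hc hd
    | neg c _ hc => rw [mul_neg, neg_mul]; exact neg_mem hc
    | mul c d _ _ hc hd =>
      have e : th g * (c * d) * th g⁻¹ = th g * c * th g⁻¹ * (th g * d * th g⁻¹) := by
        have : th (E := E) g⁻¹ * th g = 1 := by rw [← map_mul, inv_mul_cancel, map_one]
        simp only [mul_assoc]
        rw [← mul_assoc (th g⁻¹) (th g), this, one_mul]
      rw [e]
      exact mul_mem hc hd
  let A : E → Set (AddMonoid.End E) := fun w => {c | c ∈ R ∧ c w = 0}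
  have hle : ∀ (g : D) (w : E), (A w).ncard ≤ (A (g • w)).ncard := by
    intro g w
    refine Set.ncard_le_ncard_of_injOn (fun c => th g * c * th g⁻¹) ?_ ?_ (Set.toFinite _)
    · rintro c ⟨hc, hcw⟩
      refine ⟨hconj g c hc, ?_⟩
      show th g (c (th g⁻¹ (g • w))) = 0
      rw [th_apply, th_apply, inv_smul_smul, hcw, smul_zero]
    · intro c _ d _ h
      refine DFunLike.ext _ _ fun e => ?_
      have h' : th g (c (th g⁻¹ (g • e))) = th g (d (th g⁻¹ (g • e))) := DFunLike.congr_fun h (g • e)
      rw [th_apply, th_apply, th_apply, inv_smul_smul] at h'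
      exact MulAction.injective g h'
  have hcard : ∀ w z : E, w ≠ 0 → z ≠ 0 → (A w).ncard = (A z).ncard := by
    intro w z hw hz
    obtain ⟨g, rfl⟩ := htrans w z hw hz
    refine le_antisymm (hle g w) ?_
    simpa using hle g⁻¹ (g • w)
  by_contra hane
  obtain ⟨w, hw⟩ : ∃ w, a w ≠ 0 := by
    by_contra h
    push Not at h
    exact hane (DFunLike.ext _ _ h)
  have hw0 : w ≠ 0 := fun e => hw (by rw [e, map_zero])
  have hu : v + w ≠ 0 := fun e => hw (by
    rw [show w = -v from eq_neg_of_add_eq_zero_right e, map_neg, hav, neg_zero])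
  have hsub : A (v + w) ⊆ A v ∩ A w := by
    rintro c ⟨hc, hcu⟩
    rw [map_add] at hcu
    by_cases hz : c v = 0
    · rw [hz, zero_add] at hcu
      exact ⟨⟨hc, hz⟩, ⟨hc, hcu⟩⟩
    exfalso
    have hcw : c v = -c w := eq_neg_of_add_eq_zero_left hcu
    have h1 : A v ⊆ A (c v) := by
      rintro d ⟨hd, hdv⟩
      refine ⟨hd, ?_⟩
      show (d * c) v = 0
      rw [hcomm d hd c hc]
      show c (d v) = 0
      rw [hdv, map_zero]
    have h2 : A w ⊆ A (c v) := by
      rintro d ⟨hd, hdw⟩
      refine ⟨hd, ?_⟩
      rw [hcw, map_neg, neg_eq_zero]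
      show (d * c) w = 0
      rw [hcomm d hd c hc]
      show c (d w) = 0
      rw [hdw, map_zero]
    have e1 := Set.eq_of_subset_of_ncard_le h1 (hcard _ _ hz hv).le (Set.toFinite _)
    have e2 := Set.eq_of_subset_of_ncard_le h2 (hcard _ _ hz hw0).le (Set.toFinite _)
    have : a ∈ A w := by rw [e2, ← e1]; exact ⟨ha, hav⟩
    exact hw this.2
  have e1 := Set.eq_of_subset_of_ncard_le (hsub.trans Set.inter_subset_left) (hcard _ _ hv hu).le
    (Set.toFinite _)
  have e2 := Set.eq_of_subset_of_ncard_le (hsub.trans Set.inter_subset_right) (hcard _ _ hw0 hu).le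
    (Set.toFinite _)
  have : a ∈ A w := by rw [← e2, e1]; exact ⟨ha, hav⟩
  exact hw this.2

/-- A commutative subgroup spanning a field is cyclic and semiregular. -/
theorem cyclic_semiregular [Finite D] [FaithfulSMul D E] [Nontrivial E] (B : Subgroup D)
    (hB : ∀ g ∈ B, ∀ h ∈ B, g * h = h * g) (hinj : Inj (E := E) (B : Set D)) :
    IsCyclic B ∧ ∀ g ∈ B, g ≠ 1 → ∀ a : E, g • a = a → a = 0 := by
  classical
  obtain ⟨v, hv⟩ := exists_ne (0 : E)
  constructor
  · letI : CommRing (span (E := E) (B : Set D)) :=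
      { (inferInstance : Ring (span (E := E) (B : Set D))) with
        mul_comm := fun a b => Subtype.ext (span_comm hB _ a.2 _ b.2) }
    haveI : NoZeroDivisors (span (E := E) (B : Set D)) := ⟨fun {a b} h => by
      have h' : (a : AddMonoid.End E) ((b : AddMonoid.End E) v) = 0 :=
        DFunLike.congr_fun (congrArg Subtype.val h) v
      by_cases hbv : (b : AddMonoid.End E) v = 0
      · exact Or.inr (Subtype.ext (hinj b b.2 v hv hbv))
      · exact Or.inl (Subtype.ext (hinj a a.2 _ hbv h'))⟩
    haveI : Nontrivial (span (E := E) (B : Set D)) :=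
      ⟨⟨0, 1, fun h => hv (DFunLike.congr_fun (congrArg Subtype.val h) v).symm⟩⟩
    haveI : IsDomain (span (E := E) (B : Set D)) := NoZeroDivisors.to_isDomain _
    let f : B →* span (E := E) (B : Set D) :=
      { toFun := fun b => ⟨th (b : D), th_mem_span b.2⟩
        map_one' := Subtype.ext (map_one _)
        map_mul' := fun a b => Subtype.ext (map_mul _ _ _) }
    exact isCyclic_of_subgroup_isDomain f fun a b h =>
      Subtype.ext (th_injective (congrArg Subtype.val h))
  · intro g hg hg1 a hga
    by_contra ha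
    refine hg1 (th_injective (E := E) ?_)
    rw [map_one, ← sub_eq_zero]
    refine hinj _ (sub_mem (th_mem_span hg) (one_mem _)) a ha ?_
    show g • a - a = 0
    rw [hga, sub_self]

/-- An element of prime order with `2` of order at least the dimension generates a field. -/
theorem inj_singleton [FaithfulSMul D E] {n r : ℕ} (hn : Nat.card E = 2 ^ n) [Fact r.Prime]
    {y : D} (hy : orderOf y = r) (hr : n ≤ orderOf (2 : ZMod r)) (hr2 : r ≠ 2) :
    Inj (E := E) ({y} : Set D) := by
  classical
  have h20 : (2 : ZMod r) ≠ 0 := fun h => hr2 ((Nat.prime_dvd_prime_iff_eq Fact.out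
    Nat.prime_two).1 ((CharP.cast_eq_zero_iff (ZMod r) r 2).1 (by exact_mod_cast h)))
  have hcards : ∀ W : AddSubgroup E, ∃ i ≤ n, Nat.card W = 2 ^ i := fun W =>
    (Nat.dvd_prime_pow Nat.prime_two).1 (hn ▸ W.card_addSubgroup_dvd_card)
  have hmod : ∀ W : AddSubgroup E, (∀ w ∈ W, y • w ∈ W) →
      Nat.card W ≡ Nat.card {w : W // y • (w : E) = w} [MOD r] := by
    intro W hW
    let σ : Equiv.Perm W := Equiv.ofBijective (fun w => ⟨y • (w : E), hW w w.2⟩)
      (Finite.injective_iff_bijective.1 fun a b h =>
        Subtype.ext (MulAction.injective y (congrArg Subtype.val h)))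
    have hσ : ∀ (k : ℕ) (w : W), (((σ ^ k) w : W) : E) = (y ^ k) • (w : E) := by
      intro k
      induction k with
      | zero => intro w; simp
      | succ k ih => intro w; rw [pow_succ, Equiv.Perm.mul_apply, ih, pow_succ, mul_smul]; rfl
    have hP : IsPGroup r (Subgroup.zpowers σ) := fun z => by
      obtain ⟨k, hk⟩ := (mem_powers_iff_mem_zpowers.2 z.2 : (z : Equiv.Perm W) ∈ Submonoid.powers σ)
      refine ⟨1, Subtype.ext ?_⟩
      simp only at hk
      rw [pow_one, SubmonoidClass.coe_pow, ← hk, ← pow_mul, mul_comm, pow_mul]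
      have : σ ^ r = 1 := Equiv.ext fun w => Subtype.ext (by
        rw [hσ, ← hy, pow_orderOf_eq_one, one_smul]; rfl)
      rw [this, one_pow]
      rfl
    refine (hP.card_modEq_card_fixedPoints W).trans ?_
    rw [Nat.card_congr]
    refine Equiv.subtypeEquivRight fun w => ⟨fun h => ?_, fun h g => ?_⟩
    · exact congrArg Subtype.val (h ⟨σ, Subgroup.mem_zpowers σ⟩ : σ w = w)
    · obtain ⟨k, hk⟩ := (mem_powers_iff_mem_zpowers.2 g.2 : (g : Equiv.Perm W) ∈ Submonoid.powers σ)
      refine Subtype.ext ?_
      show (((g : Equiv.Perm W) w : W) : E) = w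
      simp only at hk
      rw [← hk, hσ]
      clear hk
      induction k with
      | zero => simp
      | succ k ih => rw [pow_succ, mul_smul, h, ih]
  have hexp : ∀ i j : ℕ, j ≤ i → i ≤ n → 2 ^ i ≡ 2 ^ j [MOD r] → i - j = 0 ∨ (i = n ∧ j = 0) := by
    intro i j hji hin h
    have h1 : (2 : ZMod r) ^ i = 2 ^ j := by
      have := (ZMod.natCast_eq_natCast_iff _ _ r).2 h
      exact_mod_cast this
    rw [← Nat.add_sub_cancel' hji, pow_add] at h1
    have h2 := mul_left_cancel₀ (pow_ne_zero j h20) (h1.trans (mul_one _).symm)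
    rcases Nat.eq_zero_or_pos (i - j) with h0 | h0
    · exact Or.inl h0
    · have := Nat.le_of_dvd h0 (orderOf_dvd_of_pow_eq_one h2)
      exact Or.inr ⟨by omega, by omega⟩
  let Fix : AddSubgroup E :=
    { carrier := {w | y • w = w}
      zero_mem' := smul_zero y
      add_mem' := fun {a b} ha hb => by
        show y • (a + b) = a + b
        rw [smul_add, ha, hb]
      neg_mem' := fun {a} ha => by
        show y • (-a) = -a
        rw [smul_neg, ha] }
  have hfix : ∀ w : E, y • w = w → w = 0 := by
    obtain ⟨j, hjn, hj⟩ := hcards Fix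
    have h := hmod ⊤ fun w _ => AddSubgroup.mem_top _
    rw [AddSubgroup.card_top, hn] at h
    have e : Nat.card {w : (⊤ : AddSubgroup E) // y • (w : E) = w} = Nat.card Fix :=
      Nat.card_congr ⟨fun w => ⟨w.1.1, w.2⟩, fun w => ⟨⟨w.1, AddSubgroup.mem_top _⟩, w.2⟩,
        fun _ => rfl, fun _ => rfl⟩
    rw [e, hj] at h
    rcases hexp n j hjn le_rfl h with h0 | ⟨-, h0⟩
    · exfalso
      have : Fix = ⊤ := AddSubgroup.eq_top_of_card_eq _ (by rw [hj, hn]; congr 1; omega)
      have hy1 : y = 1 := FaithfulSMul.eq_of_smul_eq_smul fun w : E => by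
        rw [one_smul]
        exact (this ▸ AddSubgroup.mem_top w : w ∈ Fix)
      rw [hy1, orderOf_one] at hy
      exact (Fact.out : r.Prime).ne_one hy.symm
    · intro w hw
      have hb : Fix = ⊥ := AddSubgroup.eq_bot_of_card_eq _ (by rw [hj, h0, pow_zero])
      exact (hb ▸ (hw : w ∈ Fix) : w ∈ (⊥ : AddSubgroup E))
  intro a ha v hv hav
  have hya : ∀ w, a (y • w) = y • a w := fun w => by
    have := commute_span (E := E) (s := ({y} : Set D)) (z := th y)
      (fun g hg => by rw [Set.mem_singleton_iff.1 hg]) a ha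
    exact (DFunLike.congr_fun this.eq w).symm
  let K : AddSubgroup E :=
    { carrier := {w | a w = 0}
      zero_mem' := map_zero a
      add_mem' := fun {b c} hb hc => by
        show a (b + c) = 0
        rw [map_add, (hb : a b = 0), (hc : a c = 0), add_zero]
      neg_mem' := fun {b} hb => by
        show a (-b) = 0
        rw [map_neg, (hb : a b = 0), neg_zero] }
  have hW : ∀ w ∈ K, y • w ∈ K := fun w (hw : a w = 0) => by
    show a (y • w) = 0
    rw [hya, hw, smul_zero]
  obtain ⟨i, hin, hi⟩ := hcards (K)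
  have h := hmod _ hW
  have e : Nat.card {w : K // y • (w : E) = w} = 2 ^ 0 := by
    rw [pow_zero, Nat.card_eq_one_iff_unique]
    exact ⟨⟨fun p q => Subtype.ext (Subtype.ext ((hfix _ p.2).trans (hfix _ q.2).symm))⟩,
      ⟨⟨0, by simp⟩⟩⟩
  rw [e, hi] at h
  rcases hexp i 0 (Nat.zero_le i) hin h with h0 | ⟨h0, -⟩
  · exfalso
    have hb : K = ⊥ := AddSubgroup.eq_bot_of_card_eq _ (by
      rw [hi, show i = 0 by omega, pow_zero])
    exact hv (hb ▸ (hav : v ∈ K) : v ∈ (⊥ : AddSubgroup E))
  · have ht : K = ⊤ := AddSubgroup.eq_top_of_card_eq _ (by rw [hi, hn, h0])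
    exact DFunLike.ext _ _ fun w => (ht ▸ AddSubgroup.mem_top w : w ∈ K)

/-- The centraliser of a field-spanning element with large order of `2` is abelian. -/
theorem centralizer_comm [Finite D] [FaithfulSMul D E] [Nontrivial E] (hodd : Odd (Nat.card D))
    {n s : ℕ} (hE : ∀ e : E, 2 • e = 0) (hn : Nat.card E = 2 ^ n) [Fact s.Prime] {x : D}
    (hx : orderOf x = s) (hinj : Inj (E := E) ({x} : Set D)) (hs : n ≤ 2 * orderOf (2 : ZMod s)) :
    ∀ g ∈ Subgroup.centralizer ({x} : Set D), ∀ h ∈ Subgroup.centralizer ({x} : Set D),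
      g * h = h * g := by
  classical
  haveI := finite_end (E := E)
  obtain ⟨v, hv⟩ := exists_ne (0 : E)
  have hc1 : ∀ g ∈ ({x} : Set D), ∀ h ∈ ({x} : Set D), g * h = h * g := fun g hg h hh => by
    rw [Set.mem_singleton_iff.1 hg, Set.mem_singleton_iff.1 hh]
  let R := span (E := E) ({x} : Set D)
  letI : CommRing R :=
    { (inferInstance : Ring R) with mul_comm := fun a b => Subtype.ext (span_comm hc1 _ a.2 _ b.2) }
  haveI : NoZeroDivisors R := ⟨fun {a b} h => by
    have h' : (a : AddMonoid.End E) ((b : AddMonoid.End E) v) = 0 :=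
      DFunLike.congr_fun (congrArg Subtype.val h) v
    by_cases hbv : (b : AddMonoid.End E) v = 0
    · exact Or.inr (Subtype.ext (hinj b b.2 v hv hbv))
    · exact Or.inl (Subtype.ext (hinj a a.2 _ hbv h'))⟩
  haveI : Nontrivial R :=
    ⟨⟨0, 1, fun h => hv (DFunLike.congr_fun (congrArg Subtype.val h) v).symm⟩⟩
  haveI : IsDomain R := NoZeroDivisors.to_isDomain _
  letI : Fintype R := Fintype.ofFinite R
  letI : Field R := Fintype.fieldOfDomain R
  letI : Module R E :=
    { smul := fun a e => (a : AddMonoid.End E) e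
      one_smul := fun _ => rfl
      mul_smul := fun _ _ _ => rfl
      smul_zero := fun a => map_zero (a : AddMonoid.End E)
      smul_add := fun a => map_add (a : AddMonoid.End E)
      add_smul := fun _ _ _ => rfl
      zero_smul := fun _ => rfl }
  haveI : Module.Finite R E := Module.Finite.of_finite
  have h2R : (2 : R) = 0 := Subtype.ext (DFunLike.ext _ _ fun e => by
    show ((2 : R) : AddMonoid.End E) e = 0
    rw [show (2 : R) = 1 + 1 by norm_num]
    show e + e = 0
    rw [← two_nsmul, hE])
  haveI : CharP R 2 := (CharP.charP_iff_prime_eq_zero Nat.prime_two).2 (by exact_mod_cast h2R)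
  set d := Module.finrank R E with hd
  have hpow : 2 ^ n = Nat.card R ^ d := by rw [← hn, Module.natCard_eq_pow_finrank (K := R)]
  have hd0 : 0 < d := Module.finrank_pos
  obtain ⟨f, -, hf⟩ : ∃ f ≤ n, Nat.card R = 2 ^ f :=
    (Nat.dvd_prime_pow Nat.prime_two).1 (hpow ▸ dvd_pow_self _ hd0.ne')
  rw [hf, ← pow_mul] at hpow
  have hnfd : n = f * d := Nat.pow_right_injective le_rfl hpow
  have hxR : orderOf (⟨th x, th_mem_span rfl⟩ : R) = s := by
    rw [← hx]
    let ι : R →* AddMonoid.End E := R.subtype.toMonoidHom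
    rw [← orderOf_injective ι Subtype.val_injective]
    exact orderOf_injective (th (D := D) (E := E)) th_injective x
  have hne : (⟨th x, th_mem_span rfl⟩ : R) ≠ 0 := by
    intro e
    rw [e] at hxR
    have h1 : (0 : R) ^ s = 1 := hxR ▸ pow_orderOf_eq_one (0 : R)
    rw [zero_pow (Fact.out : s.Prime).ne_zero] at h1
    exact zero_ne_one h1
  have hdvd : s ∣ 2 ^ f - 1 := by
    rw [← hxR, ← hf, Nat.card_eq_fintype_card]
    exact orderOf_dvd_of_pow_eq_one (FiniteField.pow_card_sub_one_eq_one _ hne)
  have hf0 : f ≠ 0 := by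
    rintro rfl
    have := Fintype.one_lt_card (α := R)
    rw [← Nat.card_eq_fintype_card, hf] at this
    omega
  have hord : orderOf (2 : ZMod s) ∣ f := by
    refine orderOf_dvd_of_pow_eq_one ?_
    have h := (CharP.cast_eq_zero_iff (ZMod s) s _).2 hdvd
    rw [Nat.cast_sub Nat.one_le_two_pow, sub_eq_zero] at h
    exact_mod_cast h
  have hd2 : d ≤ 2 := by
    have := Nat.le_of_dvd (Nat.pos_of_ne_zero hf0) hord
    by_contra h3
    have := Nat.mul_le_mul_left f (show 3 ≤ d by omega)
    omega
  let C := Subgroup.centralizer ({x} : Set D)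
  let ρ : C →* Module.End R E :=
    { toFun := fun g =>
        { toFun := fun e => (g : D) • e
          map_add' := smul_add (g : D)
          map_smul' := fun a e => by
            have hc : Commute (th (g : D)) (a : AddMonoid.End E) := by
              refine commute_span (fun h hh => ?_) _ a.2
              rw [Set.mem_singleton_iff.1 hh]
              have : Commute (g : D) x :=
                ((Subgroup.mem_centralizer_singleton_iff.1 g.2) : (g : D) * x = x * (g : D))
              exact this.map th
            exact DFunLike.congr_fun hc.eq e }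
      map_one' := LinearMap.ext fun e => one_smul D e
      map_mul' := fun g h => LinearMap.ext fun e => mul_smul (g : D) (h : D) e }
  have hρ : Function.Injective ρ := fun g h e => Subtype.ext
    (FaithfulSMul.eq_of_smul_eq_smul fun w : E => LinearMap.congr_fun e w)
  have hoddC : Odd (Nat.card C) := hodd.of_dvd_nat C.card_subgroup_dvd_card
  obtain ⟨χ, -, -, -, hcomm⟩ := (exists_lift_char (p := 2) ρ hρ hoddC.not_two_dvd_nat).1
  intro g hg h hh
  exact congrArg Subtype.val (hcomm hd2 hoddC (⟨g, hg⟩ : C) ⟨h, hh⟩)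

end CfsgLib.OddTransitive
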