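import Cfsg.Agent.Lib.ClassSizes.OddTransitive.Main

/-!
# The prime with normal Sylow subgroup in every dimension, and the conclusion

Owner: helper16.
-/

set_option autoImplicit false

universe u v

namespace CfsgLib.OddTransitive

open Cfsg

theorem orderOf_two {n r : ℕ} (hn : 0 < n) (hr : r.Prime) (hd : r ∣ 2 ^ n - 1)
    (hlt : ∀ i, 1 ≤ i → i < n → ¬ r ∣ 2 ^ i - 1) : orderOf (2 : ZMod r) = n := by
  have key : ∀ i, r ∣ 2 ^ i - 1 ↔ (2 : ZMod r) ^ i = 1 := fun i => by
    rw [← CharP.cast_eq_zero_iff (ZMod r) r, Nat.cast_sub Nat.one_le_two_pow, sub_eq_zero]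
    norm_cast
  rw [orderOf_eq_iff hn]
  exact ⟨(key n).1 hd, fun i hi hi0 h => hlt i hi0 hi ((key i).2 h)⟩

section Setting

variable {D : Type u} {E : Type v} [Group D] [Finite D] [AddCommGroup E] [Finite E] [Nontrivial E]
  [DistribMulAction D E] [FaithfulSMul D E] {n : ℕ}

theorem Data.stabilizer_index (h : Data D E n) {v : E} (hv : v ≠ 0) :
    (MulAction.stabilizer D v).index = 2 ^ n - 1 := by
  classical
  have horb : MulAction.orbit D v = {w : E | w ≠ 0} := by
    ext w
    constructor
    · rintro ⟨d, rfl⟩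
      exact fun hd => hv ((smul_eq_zero_iff_eq d).1 hd)
    · exact fun hw => h.trans v w hv hw
  have h1 := Nat.card_congr (MulAction.orbitEquivQuotientStabilizer D v)
  rw [← Subgroup.index, horb] at h1
  rw [← h1, Nat.card_coe_set_eq, show {w : E | w ≠ 0} = ({0} : Set E)ᶜ from rfl, Set.ncard_compl,
    Set.ncard_singleton, h.card]

/-- The order divides that of the general linear group. -/
theorem Data.card_dvd_GL (h : Data D E n) :
    Nat.card D ∣ ∏ i : Fin n, (2 ^ n - 2 ^ (i : ℕ)) := by
  classical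
  letI : Module (ZMod 2) E := AddCommGroup.zmodModule h.two
  haveI : Module.Finite (ZMod 2) E := Module.Finite.of_finite
  have hfin : Module.finrank (ZMod 2) E = n := by
    have h1 := Module.natCard_eq_pow_finrank (K := ZMod 2) (V := E)
    rw [h.card, Nat.card_zmod] at h1
    exact (Nat.pow_right_injective le_rfl h1).symm
  let b := (Module.finBasis (ZMod 2) E).reindex (finCongr hfin)
  let ρ : D →* Module.End (ZMod 2) E :=
    { toFun := fun g => AddMonoidHom.toZModLinearMap 2 (DistribSMul.toAddMonoidHom E g)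
      map_one' := LinearMap.ext fun e => one_smul D e
      map_mul' := fun a b => LinearMap.ext fun e => mul_smul a b e }
  let f : D →* GL (Fin n) (ZMod 2) :=
    ((LinearMap.toMatrixAlgEquiv b).toAlgHom.toRingHom.toMonoidHom.comp ρ).toHomUnits
  have hf : Function.Injective f := fun x y hxy => by
    have h1 := congrArg (fun u : GL (Fin n) (ZMod 2) => (u : Matrix (Fin n) (Fin n) (ZMod 2))) hxy
    have h2 : ρ x = ρ y := (LinearMap.toMatrixAlgEquiv b).injective h1
    exact FaithfulSMul.eq_of_smul_eq_smul fun w : E => LinearMap.congr_fun h2 w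
  have h1 := Subgroup.card_subgroup_dvd_card f.range
  rw [← Nat.card_congr (MonoidHom.ofInjective hf).toEquiv, Matrix.card_GL_field] at h1
  simpa [ZMod.card] using h1

theorem Data.good_of_small (h : Data D E n) (hn : n = 3 ∨ n = 6) : Good D := by
  classical
  obtain ⟨-, ⟨ψ, hψ, hψf, hψn, hψo, hψe⟩⟩ := h.char_bounds
  have hd3 : charDegree ψ ≤ 3 := by
    rcases hn with rfl | rfl
    · exact hψn
    · have := hψe (by decide); omega
  have hG : Nat.card D ∣ 2 ^ 15 * (3 ^ 4 * 5 * 7 ^ 2 * 31) := by
    refine h.card_dvd_GL.trans ?_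
    rcases hn with rfl | rfl
    · norm_num [Fin.prod_univ_succ]
    · norm_num [Fin.prod_univ_succ]
  have hc2 : (Nat.card D).Coprime (2 ^ 15) :=
    (Nat.coprime_two_right.2 h.odd).pow_right 15
  have hG' : Nat.card D ∣ 3 ^ 4 * 5 * 7 ^ 2 * 31 := hc2.dvd_of_dvd_mul_left hG
  have h31 : ¬ 31 ∣ Nat.card D := by
    intro hd
    haveI : Fact (Nat.Prime 31) := ⟨by norm_num⟩
    obtain ⟨P⟩ : Nonempty (Sylow 31 D) := inferInstance
    obtain ⟨x, hx, hxn, hinj⟩ := h.exists_normal_prime hd P
      (normal_of_degree_lt hψ hψf (by omega) P)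
    obtain ⟨v, hv⟩ := exists_ne (0 : E)
    haveI := hxn
    obtain ⟨-, hfpf⟩ := cyclic_semiregular (E := E) (Subgroup.zpowers x)
      (fun g hg k hk => by
        obtain ⟨i, rfl⟩ := hg
        obtain ⟨j, rfl⟩ := hk
        exact ((Commute.refl x).zpow_zpow i j).eq) hinj
    let π := QuotientGroup.mk' (Subgroup.zpowers x)
    let S := MulAction.stabilizer D v
    have hinjS : Function.Injective (π.comp S.subtype) := by
      refine (injective_iff_map_eq_one _).2 fun a ha => Subtype.ext ?_
      have ha' : (a : D) ∈ Subgroup.zpowers x := (QuotientGroup.eq_one_iff _).1 ha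
      by_contra hne
      exact hv (hfpf _ ha' hne v a.2)
    have h1 : Nat.card S ∣ Nat.card (D ⧸ Subgroup.zpowers x) :=
      Subgroup.card_dvd_of_injective _ hinjS
    have h2 : 31 * Nat.card S ∣ Nat.card D := by
      rw [Subgroup.card_eq_card_quotient_mul_card_subgroup (Subgroup.zpowers x), Nat.card_zpowers,
        hx, mul_comm _ 31]
      exact Nat.mul_dvd_mul_left 31 h1
    rw [← S.index_mul_card, h.stabilizer_index hv] at h2
    have h3 := Nat.dvd_of_mul_dvd_mul_right Nat.card_pos h2
    rcases hn with rfl | rfl <;> norm_num at h3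
  have hG'' : Nat.card D ∣ 3 ^ 4 * 5 * 7 ^ 2 :=
    (((Nat.Prime.coprime_iff_not_dvd (by norm_num)).2 h31).symm).dvd_of_dvd_mul_right hG'
  have hburn : ∀ K : Subgroup D, ¬ 5 ∣ Nat.card K → Group.IsSolvable K := by
    intro K hK
    have h1 : Nat.card K ∣ 3 ^ 4 * 7 ^ 2 := by
      refine (((Nat.Prime.coprime_iff_not_dvd (by norm_num)).2 hK).symm).dvd_of_dvd_mul_left (m := 5) ?_
      exact (K.card_subgroup_dvd_card.trans hG'').trans (by norm_num)
    obtain ⟨d₁, d₂, h2, h3, h4⟩ := Nat.dvd_mul.mp h1
    obtain ⟨i, -, rfl⟩ := (Nat.dvd_prime_pow (by norm_num)).mp h2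
    obtain ⟨j, -, rfl⟩ := (Nat.dvd_prime_pow (by norm_num)).mp h3
    exact CfsgLib.Burnside.isSolvable_of_card_eq (by norm_num) (by norm_num) h4.symm
  have hsolv : Group.IsSolvable D := by
    by_cases h5 : 5 ∣ Nat.card D
    swap
    · haveI := hburn ⊤ (by rwa [Subgroup.card_top])
      exact solvable_of_ker_le_range (Subgroup.subtype (⊤ : Subgroup D)) (1 : D →* Unit)
        (by rw [Subgroup.range_subtype]; exact le_top)
    haveI : Fact (Nat.Prime 5) := ⟨by norm_num⟩
    obtain ⟨P⟩ : Nonempty (Sylow 5 D) := inferInstance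
    have hPc : Nat.card (P : Subgroup D) = 5 := by
      obtain ⟨i, hi⟩ := IsPGroup.iff_card.1 P.isPGroup'
      have h1 := P.dvd_card_of_dvd_card h5
      have h2 := (Subgroup.card_subgroup_dvd_card (P : Subgroup D)).trans hG''
      rw [hi] at h1 h2 ⊢
      rcases i with _ | _ | i
      · norm_num at h1
      · norm_num
      · exact absurd ((pow_dvd_pow 5 (by omega : 2 ≤ i + 2)).trans h2) (by norm_num)
    haveI : IsCyclic (P : Subgroup D) := isCyclic_of_prime_card (p := 5) hPc
    have hN : Subgroup.normalizer ((P : Subgroup D) : Set D) ≤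
        Subgroup.centralizer ((P : Subgroup D) : Set D) := by
      set f := (P : Subgroup D).normalizerMonoidHom
      have h4 : Nat.card f.range ∣ 4 := by
        have : Nat.card (MulAut (P : Subgroup D)) = 4 := by
          rw [IsCyclic.card_mulAut, hPc]; rfl
        exact this ▸ Subgroup.card_subgroup_dvd_card _
      have hodd : Odd (Nat.card f.range) :=
        h.odd.of_dvd_nat ((Subgroup.card_range_dvd f).trans (Subgroup.card_subgroup_dvd_card _))
      have h1 : Nat.card f.range = 1 := by
        have := Nat.le_of_dvd (by norm_num) h4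
        interval_cases h5 : Nat.card f.range
        · exact absurd hodd (by decide)
        · rfl
        · exact absurd hodd (by decide)
        · exact absurd h4 (by decide)
        · exact absurd hodd (by decide)
      have hbot : f.range = ⊥ := Subgroup.eq_bot_of_card_eq _ h1
      intro g hg
      have hmem : (⟨g, hg⟩ : Subgroup.normalizer ((P : Subgroup D) : Set D)) ∈ f.ker := by
        rw [MonoidHom.mem_ker]
        exact Subgroup.mem_bot.1 (hbot ▸ (⟨⟨g, hg⟩, rfl⟩ : f ⟨g, hg⟩ ∈ f.range))
      rw [Subgroup.normalizerMonoidHom_ker] at hmem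
      exact hmem
    have hcompl := MonoidHom.ker_transferSylow_isComplement' P hN
    set T := (MonoidHom.transferSylow P hN).ker
    have h5T : ¬ 5 ∣ Nat.card T := by
      rw [← hcompl.index_eq_card]
      exact P.not_dvd_index
    haveI := hburn T h5T
    haveI : IsMulCommutative (P : Subgroup D) := inferInstance
    haveI : Group.IsSolvable (P : Subgroup D) := inferInstance
    exact solvable_of_ker_le_range T.subtype (MonoidHom.transferSylow P hN)
      (by rw [Subgroup.range_subtype])
  haveI : Fact (Nat.Prime 7) := ⟨by norm_num⟩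
  have h7 : 7 ∣ Nat.card D := by
    refine dvd_trans ?_ h.dvd_card
    rcases hn with rfl | rfl <;> norm_num
  obtain ⟨P⟩ : Nonempty (Sylow 7 D) := inferInstance
  have hord : orderOf (2 : ZMod 7) = 3 := orderOf_two (by norm_num) (by norm_num) (by norm_num)
    (fun i h1 h2 => by interval_cases i <;> norm_num)
  refine h.good_of_normal h7 P ?_ (by rw [hord]; omega)
  by_contra hP
  obtain ⟨h1, -⟩ := Cfsg.Agent.S4468.result ψ hψ hψf _ rfl 7 (by norm_num)
    (CfsgLib.Core.isPSolvable_of_isSolvable hsolv) (by omega) P hP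
  omega

theorem Data.good (h : Data D E n) (hn : 3 ≤ n) : Good D := by
  classical
  rcases CfsgLib.PrimitivePart.big_or_excl (q := 2) le_rfl hn with hex | ⟨M, hM, hMc, hMb⟩
  · simp only [CfsgLib.PrimitivePart.excl, List.mem_cons, Prod.mk.injEq, List.not_mem_nil] at hex
    have hs : ∀ s f : ℕ, s.Prime → s ∣ 2 ^ n - 1 → 0 < f → s ∣ 2 ^ f - 1 →
        (∀ i, 1 ≤ i → i < f → ¬ s ∣ 2 ^ i - 1) → n ≤ 2 * f → Even n →
        (∀ d, Odd d → 2 * d ≤ n → 2 * d + 1 < s) → Good D := fun s f hsp hdvd hf hfd hlt hnf he hb =>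
      h.good_of_bound hsp hdvd (by rw [orderOf_two hf hsp hfd hlt]; exact hnf) (Or.inr ⟨he, hb⟩)
    rcases hex with h1 | h1 | h1 | h1 | h1 | h1 | h1 | h1 | h1 | h1 | h1 | h1 | h1 | h1
    all_goals try (exfalso; omega)
    · exact h.good_of_small (Or.inr h1.2)
    · obtain rfl := h1.2
      exact hs 5 4 (by norm_num) (by norm_num) (by norm_num) (by norm_num)
        (fun i h1 h2 => by interval_cases i <;> norm_num) (by norm_num) (by decide)
        (fun d hd hd' => by rcases hd with ⟨k, rfl⟩; omega)
    · obtain rfl := h1.2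
      exact hs 31 5 (by norm_num) (by norm_num) (by norm_num) (by norm_num)
        (fun i h1 h2 => by interval_cases i <;> norm_num) (by norm_num) (by decide)
        (fun d hd hd' => by omega)
    · obtain rfl := h1.2
      exact hs 13 12 (by norm_num) (by norm_num) (by norm_num) (by norm_num)
        (fun i h1 h2 => by interval_cases i <;> norm_num) (by norm_num) (by decide)
        (fun d hd hd' => by rcases hd with ⟨k, rfl⟩; omega)
    · obtain rfl := h1.2
      exact hs 73 9 (by norm_num) (by norm_num) (by norm_num) (by norm_num)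
        (fun i h1 h2 => by interval_cases i <;> norm_num) (by norm_num) (by decide)
        (fun d hd hd' => by omega)
    · exact h.good_of_small (Or.inl h1.2)
    · obtain rfl := h1.2
      exact hs 17 8 (by norm_num) (by norm_num) (by norm_num) (by norm_num)
        (fun i h1 h2 => by interval_cases i <;> norm_num) (by norm_num) (by decide)
        (fun d hd hd' => by omega)
    · obtain rfl := h1.2
      exact hs 41 20 (by norm_num) (by norm_num) (by norm_num) (by norm_num)
        (fun i h1 h2 => by interval_cases i <;> norm_num) (by norm_num) (by decide)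
        (fun d hd hd' => by omega)
  -- properties of the primes of `M`
  have hM0 : M ≠ 0 := by omega
  have hprime : ∀ r, r.Prime → r ∣ M →
      r ∣ 2 ^ n - 1 ∧ orderOf (2 : ZMod r) = n ∧ n ∣ r - 1 ∧ r ≠ 2 := by
    intro r hr hrM
    have h1 : r ∣ 2 ^ n - 1 := hrM.trans hM
    have hord := orderOf_two (by omega) hr h1 fun i hi hin hd =>
      hr.not_dvd_one ((hMc i hi hin) ▸ Nat.dvd_gcd hrM hd)
    have hr2 : r ≠ 2 := by
      rintro rfl
      have h3 : Even (2 ^ n) := (Nat.even_pow.2 ⟨even_two, by omega⟩)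
      have h4 := even_iff_two_dvd.1 h3
      have := Nat.one_le_two_pow (n := n)
      omega
    refine ⟨h1, hord, ?_, hr2⟩
    haveI := Fact.mk hr
    rw [← hord]
    refine ZMod.orderOf_dvd_card_sub_one fun h2 => hr2 ?_
    exact (Nat.prime_dvd_prime_iff_eq hr Nat.prime_two).1
      ((CharP.cast_eq_zero_iff (ZMod r) r 2).1 (by exact_mod_cast h2))
  by_cases hsq : ∃ r, r.Prime ∧ r ^ 2 ∣ M
  · obtain ⟨r, hr, hr2M⟩ := hsq
    obtain ⟨-, hord, hdiv, hr2⟩ := hprime r hr ((dvd_pow_self r two_ne_zero).trans hr2M)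
    refine h.good_of_sq hr hr2 (hr2M.trans hM) hord.ge ?_
    have := Nat.le_of_dvd (by have := hr.two_le; omega) hdiv
    omega
  by_cases hbig : ∃ r, r.Prime ∧ r ∣ M ∧ 2 * n + 1 < r
  · obtain ⟨r, hr, hrM, hlt⟩ := hbig
    obtain ⟨h1, hord, -, -⟩ := hprime r hr hrM
    exact h.good_of_bound hr h1 (by rw [hord]; omega) (Or.inl hlt)
  -- `M` is squarefree with prime divisors among `n + 1` and `2 * n + 1`
  push Not at hsq hbig
  have hsqf : Squarefree M := Nat.squarefree_iff_prime_squarefree.2 fun r hr hd =>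
    hsq r hr (by rwa [pow_two])
  have hsub : M.primeFactors ⊆ {n + 1, 2 * n + 1} := by
    intro r hr
    obtain ⟨hrp, hrM, -⟩ := Nat.mem_primeFactors.1 hr
    obtain ⟨-, -, ⟨k, hk⟩, -⟩ := hprime r hrp hrM
    have := hbig r hrp hrM
    have := hrp.two_le
    have hk2 : k ≤ 2 := by
      by_contra h3
      have := Nat.mul_le_mul_left n (show 3 ≤ k by omega)
      omega
    simp only [Finset.mem_insert, Finset.mem_singleton]
    interval_cases k <;> omega
  have hprod := Nat.prod_primeFactors_of_squarefree hsqf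
  have hmem : ∀ a b : ℕ, a ≤ 2 * n + 1 → M.primeFactors ⊆ {a, b} → b ∈ M.primeFactors := by
    intro a b ha hab
    by_contra hb
    have h1 : M.primeFactors ⊆ {a} := fun r hr => by
      have := hab hr
      simp only [Finset.mem_insert, Finset.mem_singleton] at this ⊢
      exact this.resolve_right fun e => hb (e ▸ hr)
    rcases Finset.subset_singleton_iff.1 h1 with h2 | h2 <;> rw [h2] at hprod <;>
      simp at hprod <;> omega
  have hb : 2 * n + 1 ∈ M.primeFactors := hmem (n + 1) _ (by omega) hsub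
  have ha : n + 1 ∈ M.primeFactors := hmem (2 * n + 1) _ le_rfl (by rwa [Finset.pair_comm])
  obtain ⟨hbp, hbM, -⟩ := Nat.mem_primeFactors.1 hb
  have hap := (Nat.mem_primeFactors.1 ha).1
  have he : Even n := by
    rcases hap.eq_two_or_odd' with h2 | h2
    · omega
    · exact Nat.not_odd_iff_even.1 fun ho => Nat.not_even_iff_odd.2 h2 ho.add_one
  obtain ⟨h1, hord, -, -⟩ := hprime _ hbp hbM
  exact h.good_of_bound hbp h1 (by rw [hord]; omega) (Or.inr ⟨he, fun d _ hd => by omega⟩)

/-- The conclusion from the good element. -/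
theorem conclusion (htrans : ∀ a b : E, a ≠ 0 → b ≠ 0 → ∃ d : D, d • a = b) (hg : Good D) :
    IsCyclic ↥(fittingSubgroup D) ∧
      (∀ g ∈ fittingSubgroup D, g ≠ 1 → ∀ a : E, g • a = a → a = 0) ∧
      commutator D ≤ fittingSubgroup D := by
  classical
  obtain ⟨x, ⟨s, hs, hx⟩, hxn, hC⟩ := hg
  haveI := hxn
  set X := Subgroup.zpowers x
  set C := Subgroup.centralizer (X : Set D)
  have hCx : C = Subgroup.centralizer ({x} : Set D) := by
    show Subgroup.centralizer ((Subgroup.zpowers x : Subgroup D) : Set D) = _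
    rw [Subgroup.zpowers_eq_closure, Subgroup.centralizer_closure]
  haveI : C.Normal := inferInstance
  have hCab : ∀ g ∈ C, ∀ k ∈ C, g * k = k * g := by rw [hCx]; exact hC
  obtain ⟨hcyc, hfpf⟩ := cyclic_semiregular (E := E) C hCab (inj_of_normal htrans C hCab)
  have hxC : x ∈ C := by rw [hCx]; exact Subgroup.mem_centralizer_singleton_iff.2 rfl
  have hF : fittingSubgroup D = C := by
    refine le_antisymm ?_ (CfsgLib.Core.le_fittingSubgroup ?_)
    · haveI := CfsgLib.Components.fitting_isNilpotent (G := D)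
      have hxF : X ≤ fittingSubgroup D := CfsgLib.Core.le_fittingSubgroup (by
        letI : CommGroup X := IsCyclic.commGroup
        infer_instance)
      have hXs : (X.subgroupOf (fittingSubgroup D)) ≠ ⊥ := by
        intro e
        rw [Subgroup.subgroupOf_eq_bot] at e
        have : x = 1 := Subgroup.mem_bot.1 (e.le_bot ⟨Subgroup.mem_zpowers x, hxF (Subgroup.mem_zpowers x)⟩)
        rw [this, orderOf_one] at hx
        exact hs.ne_one hx.symm
      obtain ⟨z, hz, hz1⟩ := (Subgroup.bot_or_exists_ne_one _).resolve_left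
        (CfsgLib.Core.inf_center_ne_bot_of_isNilpotent _ hXs)
      have hzX : (z : D) ∈ X := Subgroup.mem_subgroupOf.1 hz.1
      have hgen : Subgroup.zpowers (z : D) = X := by
        refine Subgroup.eq_of_le_of_card_ge (Subgroup.zpowers_le.2 hzX) ?_
        rw [Nat.card_zpowers, Nat.card_zpowers, hx]
        have h1 : orderOf (z : D) ∣ s := hx ▸ orderOf_dvd_of_mem_zpowers hzX
        rcases hs.eq_one_or_self_of_dvd _ h1 with h2 | h2
        · exact absurd (Subtype.ext (orderOf_eq_one_iff.1 h2)) hz1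
        · exact h2.ge
      intro g hg
      rw [hCx, Subgroup.mem_centralizer_singleton_iff]
      have hc : Commute g (z : D) :=
        congrArg Subtype.val (Subgroup.mem_center_iff.1 hz.2 ⟨g, hg⟩)
      obtain ⟨k, hk⟩ : x ∈ Subgroup.zpowers (z : D) := hgen ▸ Subgroup.mem_zpowers x
      rw [← hk]
      exact (hc.zpow_right k).eq
    · haveI := hcyc
      letI : CommGroup C := IsCyclic.commGroup
      infer_instance
  rw [hF]
  refine ⟨hcyc, hfpf, ?_⟩
  rw [commutator_def, Subgroup.commutator_le]
  intro g _ k _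
  have hker : (MulAut.conjNormal : D →* MulAut X).ker ≤ C := fun d hd => by
    refine Subgroup.mem_centralizer_iff.2 fun y hy => ?_
    have h1 := congrArg Subtype.val (DFunLike.congr_fun (MonoidHom.mem_ker.1 hd) ⟨y, hy⟩)
    rw [MulAut.conjNormal_apply, MulAut.one_apply] at h1
    exact (mul_inv_eq_iff_eq_mul.1 h1).symm
  refine hker (MonoidHom.mem_ker.2 ?_)
  rw [map_commutatorElement, commutatorElement_eq_one_iff_mul_comm]
  refine MulEquiv.ext fun ⟨y, i, hy⟩ => ?_
  obtain ⟨a, ha⟩ := (MulAut.conjNormal g ⟨x, Subgroup.mem_zpowers x⟩ : X).2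
  obtain ⟨b, hb⟩ := (MulAut.conjNormal k ⟨x, Subgroup.mem_zpowers x⟩ : X).2
  rw [MulAut.conjNormal_apply] at ha hb
  beta_reduce at ha hb hy
  apply Subtype.ext
  simp only [MulAut.mul_apply, MulAut.conjNormal_apply]
  subst hy
  simp only [← conj_zpow, ← ha, ← hb, ← zpow_mul]
  congr 1
  ring

end Setting

/-- Huppert's theorem for groups of odd order. -/
theorem fitting_cyclic {D : Type u} {E : Type v} [Group D] [Finite D] [AddCommGroup E] [Finite E]
    [Nontrivial E] [DistribMulAction D E] [FaithfulSMul D E] (hodd : Odd (Nat.card D)) {q : ℕ}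
    (hq : q.Prime) (hE : ∀ e : E, q • e = 0)
    (htrans : ∀ a b : E, a ≠ 0 → b ≠ 0 → ∃ d : D, d • a = b) :
    IsCyclic ↥(fittingSubgroup D) ∧
      (∀ g ∈ fittingSubgroup D, g ≠ 1 → ∀ a : E, g • a = a → a = 0) ∧
      commutator D ≤ fittingSubgroup D := by
  classical
  haveI := Fact.mk hq
  obtain ⟨m, hcard⟩ : ∃ m, Nat.card E = q ^ m := by
    have hp : IsPGroup q (Multiplicative E) := fun z => ⟨1, by
      rw [pow_one]; exact hE (Multiplicative.toAdd z)⟩
    obtain ⟨m, hm⟩ := IsPGroup.iff_card.1 hp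
    exact ⟨m, (Nat.card_congr Multiplicative.toAdd).symm.trans hm⟩
  have hq2 : q = 2 := by
    obtain ⟨v, hv⟩ := exists_ne (0 : E)
    have horb : MulAction.orbit D v = {w : E | w ≠ 0} := by
      ext w
      constructor
      · rintro ⟨d, rfl⟩
        exact fun hd => hv ((smul_eq_zero_iff_eq d).1 hd)
      · exact fun hw => htrans v w hv hw
    have h1 := Nat.card_congr (MulAction.orbitEquivQuotientStabilizer D v)
    rw [← Subgroup.index, horb, Nat.card_coe_set_eq, show {w : E | w ≠ 0} = ({0} : Set E)ᶜ from rfl,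
      Set.ncard_compl, Set.ncard_singleton, hcard] at h1
    have h2 : Odd (q ^ m - 1) :=
      h1 ▸ hodd.of_dvd_nat (Subgroup.index_dvd_card _)
    rcases hq.eq_two_or_odd' with h3 | h3
    · exact h3
    · exact absurd h2 (Nat.not_odd_iff_even.2 (Nat.Odd.sub_odd h3.pow odd_one))
  subst hq2
  have h : Data D E m := ⟨hodd, hE, htrans, hcard⟩
  rcases Nat.lt_or_ge m 3 with hn | hn
  · obtain ⟨⟨χ, -, -, -, hc⟩, -⟩ := h.char_bounds
    have hab := hc (by omega)
    have htop : ∀ g ∈ (⊤ : Subgroup D), ∀ k ∈ (⊤ : Subgroup D), g * k = k * g :=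
      fun g _ k _ => hab g k
    obtain ⟨hcyc, hfpf⟩ := cyclic_semiregular (E := E) (⊤ : Subgroup D) htop
      (inj_of_normal htrans ⊤ htop)
    have hF : fittingSubgroup D = ⊤ := top_le_iff.1 (CfsgLib.Core.le_fittingSubgroup (by
      letI : CommGroup (⊤ : Subgroup D) := IsCyclic.commGroup
      infer_instance))
    rw [hF]
    exact ⟨hcyc, hfpf, le_top⟩
  · exact conclusion htrans (h.good hn)

end CfsgLib.OddTransitive
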