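import Cfsg.Agent.Lib.ClassSizes.OddTransitive.Final
import Cfsg.Agent.Lib.Components.FStar
import Mathlib.GroupTheory.SpecificGroups.Cyclic
import Mathlib.GroupTheory.QuotientGroup.Basic

/-!
# Inverted elements of an automorphism of a transitive group of odd order

If an involutory automorphism `σ` of a group `D` of odd order, transitive on the nonzero vectors,
fixes only elements of the stabiliser of some vector, the elements inverted by `σ` form a cyclic
normal subgroup.

Owner: helper16.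
-/

set_option autoImplicit false

universe u v

namespace CfsgLib.OddTransitive

open Cfsg
open scoped commutatorElement

variable {D : Type u} {E : Type v} [Group D] [Finite D] [AddCommGroup E] [Finite E] [Nontrivial E]
  [DistribMulAction D E]

theorem eq_one_of_sq {H : Type*} [Group H] (hodd : Odd (Nat.card H)) {k : H} (hk : k * k = 1) :
    k = 1 := by
  by_contra hne
  have h1 : orderOf k = 2 := orderOf_eq_prime (by rw [pow_two, hk]) hne
  exact hodd.not_two_dvd_nat (h1 ▸ orderOf_dvd_natCard k)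

/-- The inverted elements map into the Fitting subgroup of the image. -/
theorem inverted_image (hodd : Odd (Nat.card D)) (hE : ∀ e : E, 2 • e = 0)
    (htrans : ∀ a b : E, a ≠ 0 → b ≠ 0 → ∃ d : D, d • a = b) (σ : D ≃* D)
    (hσ : ∀ d, σ (σ d) = d) (hker : ∀ d, th (E := E) d = 1 → σ d = d) {v₀ : E} (hv₀ : v₀ ≠ 0)
    (hsplit : ∀ d, ∃ v k : D, σ v = v ∧ σ k = k⁻¹ ∧ v • v₀ = v₀ ∧ d = v * k) :
    ∃ (F : Type u) (_ : Group F) (φ : Subgroup.closure {k : D | σ k = k⁻¹} →* F),
      IsCyclic F ∧ ∀ l, φ l = 1 ↔ th (E := E) (l : D) = 1 := by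
  classical
  haveI := finite_end (E := E)
  set W := (th (D := D) (E := E)).ker with hW
  let L₀ : D ⧸ W →* AddMonoid.End E := QuotientGroup.lift W (th (D := D) (E := E)) hW.le
  letI act : DistribMulAction (D ⧸ W) E :=
    { smul := fun q x => L₀ q x
      one_smul := fun x => by
        show L₀ 1 x = x
        rw [map_one]; rfl
      mul_smul := fun p q x => by
        show L₀ (p * q) x = L₀ p (L₀ q x)
        rw [map_mul]; rfl
      smul_zero := fun q => map_zero (L₀ q)
      smul_add := fun q x y => map_add (L₀ q) x y }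
  have hL₀ : Function.Injective L₀ := by
    refine (injective_iff_map_eq_one L₀).2 fun q hq => ?_
    obtain ⟨d, rfl⟩ := QuotientGroup.mk_surjective q
    exact (QuotientGroup.eq_one_iff d).2 (hW ▸ MonoidHom.mem_ker.2 hq)
  haveI : FaithfulSMul (D ⧸ W) E := ⟨fun {g h} e => hL₀ (DFunLike.ext _ _ e)⟩
  have hsmul : ∀ (d : D) (x : E), (d : D ⧸ W) • x = d • x := fun d x => rfl
  have hoddQ : Odd (Nat.card (D ⧸ W)) := hodd.of_dvd_nat (Subgroup.card_quotient_dvd_card W)
  obtain ⟨hcyc, hfpf, hder⟩ := fitting_cyclic (D := D ⧸ W) (E := E) hoddQ Nat.prime_two hE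
    (fun x y hx hy => by
      obtain ⟨d, hd⟩ := htrans x y hx hy
      exact ⟨(d : D ⧸ W), by rw [hsmul]; exact hd⟩)
  set F := Cfsg.fittingSubgroup (D ⧸ W) with hF
  haveI := hcyc
  have hFcomm : ∀ x ∈ F, ∀ y ∈ F, x * y = y * x := fun x hx y hy => by
    letI : CommGroup F := IsCyclic.commGroup
    exact congrArg Subtype.val (mul_comm (⟨x, hx⟩ : F) ⟨y, hy⟩)
  haveI hFn : Group.IsNilpotent F := by
    letI : CommGroup F := IsCyclic.commGroup
    infer_instance
  have hσW : W.map σ.toMonoidHom = W := by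
    ext d
    constructor
    · rintro ⟨e, he, rfl⟩
      show σ e ∈ W
      rw [hker e he]; exact he
    · exact fun hd => ⟨d, hd, hker d hd⟩
  let τ : (D ⧸ W) ≃* (D ⧸ W) := QuotientGroup.congr W W σ hσW
  have hτ : ∀ d : D, τ (d : D ⧸ W) = ((σ d : D) : D ⧸ W) := fun d => rfl
  haveI : F.Normal := Subgroup.sSup_normal _ fun N hN => hN.1
  have hτF : ∀ f ∈ F, τ f ∈ F := by
    intro f hf
    haveI : (F.map τ.toMonoidHom).Normal := Subgroup.Normal.map inferInstance _ τ.surjective
    exact CfsgLib.Core.le_fittingSubgroup (N := F.map τ.toMonoidHom)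
      (Group.nilpotent_of_surjective (τ.toMonoidHom.subgroupMap F)
        (τ.toMonoidHom.subgroupMap_surjective F))
      ⟨f, hf, rfl⟩
  have hττ : ∀ q : D ⧸ W, τ (τ q) = q := fun q => by
    obtain ⟨d, rfl⟩ := QuotientGroup.mk_surjective q
    rw [hτ, hτ, hσ]
  have hfix1 : ∀ f ∈ F, τ f = f → f = 1 := by
    intro f hf hτf
    obtain ⟨d, rfl⟩ := QuotientGroup.mk_surjective f
    obtain ⟨v, k, hv, hk, hvv, rfl⟩ := hsplit d
    rw [hτ, map_mul, hv, hk, QuotientGroup.mk_mul, QuotientGroup.mk_mul, mul_right_inj,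
      QuotientGroup.mk_inv] at hτf
    have hk1 := eq_one_of_sq hoddQ (k := (k : D ⧸ W)) (by
      nth_rewrite 1 [← hτf]
      rw [inv_mul_cancel])
    have hdv : ((v * k : D) : D ⧸ W) = (v : D ⧸ W) := by rw [QuotientGroup.mk_mul, hk1, mul_one]
    rw [hdv] at hf ⊢
    by_contra hne
    exact hv₀ (hfpf _ hf hne _ (by rw [hsmul]; exact hvv))
  have hinv : ∀ f ∈ F, τ f = f⁻¹ := fun f hf => by
    refine eq_inv_of_mul_eq_one_right (hfix1 _ (mul_mem hf (hτF f hf)) ?_)
    rw [map_mul, hττ, hFcomm _ (hτF f hf) f hf]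
  haveI : Group.IsSolvable (D ⧸ W) := by
    haveI : Group.IsSolvable F := by
      letI : CommGroup F := IsCyclic.commGroup
      infer_instance
    haveI : Group.IsSolvable ((D ⧸ W) ⧸ F) := by
      letI : CommGroup ((D ⧸ W) ⧸ F) :=
        { (inferInstance : Group ((D ⧸ W) ⧸ F)) with
          mul_comm := fun x y => by
            obtain ⟨x, rfl⟩ := QuotientGroup.mk_surjective x
            obtain ⟨y, rfl⟩ := QuotientGroup.mk_surjective y
            rw [← QuotientGroup.mk_mul, ← QuotientGroup.mk_mul, QuotientGroup.eq]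
            have hc : ⁅y⁻¹, x⁻¹⁆ ∈ commutator (D ⧸ W) :=
              Subgroup.commutator_mem_commutator (Subgroup.mem_top _) (Subgroup.mem_top _)
            refine hder ?_
            convert hc using 1
            rw [commutatorElement_def]
            group }
      infer_instance
    exact solvable_of_ker_le_range F.subtype (QuotientGroup.mk' F)
      (by rw [QuotientGroup.ker_mk', Subgroup.range_subtype])
  have hKF : ∀ k : D, σ k = k⁻¹ → (k : D ⧸ W) ∈ F := by
    intro k hk
    set q := (k : D ⧸ W)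
    have hτq : τ q = q⁻¹ := by rw [hτ, hk, QuotientGroup.mk_inv]
    have h2q : q * q ∈ Subgroup.centralizer (F : Set (D ⧸ W)) := by
      refine Subgroup.mem_centralizer_iff.2 fun f hf => ?_
      have hconj : q * f * q⁻¹ ∈ F := Subgroup.Normal.conj_mem inferInstance f hf q
      have h1 := hinv _ hconj
      rw [map_mul, map_mul, map_inv, hτq, hinv f hf] at h1
      have h2 : q⁻¹ * f * q = q * f * q⁻¹ := inv_injective (by
        rw [← h1]; group)
      calc f * (q * q) = q * (q⁻¹ * f * q) * q := by group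
        _ = q * q * f := by rw [h2]; group
    have h3 : q * q ∈ F := CfsgLib.Components.centralizer_fitting_le_of_isSolvable h2q
    obtain ⟨j, hj⟩ := Odd.of_dvd_nat hoddQ (orderOf_dvd_natCard q)
    have h4 : q = (q * q) ^ (j + 1) := by
      rw [← pow_two, ← pow_mul, show 2 * (j + 1) = orderOf q + 1 by omega, pow_succ,
        pow_orderOf_eq_one, one_mul]
    rw [h4]
    exact pow_mem h3 _
  set L := Subgroup.closure {k : D | σ k = k⁻¹} with hL
  have hLF : ∀ l ∈ L, (l : D ⧸ W) ∈ F := by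
    have h1 : L ≤ F.comap (QuotientGroup.mk' W) := (Subgroup.closure_le _).2 fun k hk => hKF k hk
    exact fun l hl => h1 hl
  refine ⟨F, inferInstance, ((QuotientGroup.mk' W).comp L.subtype).codRestrict F fun l => hLF l l.2,
    hcyc, fun l => ⟨fun h => ?_, fun h => ?_⟩⟩
  · exact MonoidHom.mem_ker.1 ((QuotientGroup.eq_one_iff _).1 (congrArg Subtype.val h))
  · exact Subtype.ext ((QuotientGroup.eq_one_iff _).2 (MonoidHom.mem_ker.2 h))

/-- The inverted elements form a cyclic normal subgroup. -/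
theorem inverted_subgroup (hodd : Odd (Nat.card D)) (hE : ∀ e : E, 2 • e = 0)
    (htrans : ∀ a b : E, a ≠ 0 → b ≠ 0 → ∃ d : D, d • a = b) (σ : D ≃* D)
    (hσ : ∀ d, σ (σ d) = d)
    (hker : ∀ d, th (E := E) d = 1 → σ d = d ∧ ∀ k, σ k = k⁻¹ → d * k = k * d)
    {v₀ : E} (hv₀ : v₀ ≠ 0)
    (hsplit : ∀ d, ∃ v k : D, σ v = v ∧ σ k = k⁻¹ ∧ v • v₀ = v₀ ∧ d = v * k) :
    ∃ C : Subgroup D, (∀ x, x ∈ C ↔ σ x = x⁻¹) ∧ IsCyclic C ∧ C.Normal := by
  classical
  obtain ⟨F, instF, φ, hF, hφ⟩ :=
    inverted_image hodd hE htrans σ hσ (fun d hd => (hker d hd).1) hv₀ hsplit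
  haveI := hF
  have hkc : φ.ker ≤ Subgroup.center (Subgroup.closure {k : D | σ k = k⁻¹}) := by
    intro l hl
    refine Subgroup.mem_center_iff.2 fun m => Subtype.ext ?_
    have hm : (m : D) ∈ Subgroup.centralizer {(l : D)} := by
      refine (Subgroup.closure_le _).2 (fun k hk => ?_) m.2
      exact Subgroup.mem_centralizer_singleton_iff.2
        ((hker _ ((hφ l).1 (MonoidHom.mem_ker.1 hl))).2 k hk).symm
    exact Subgroup.mem_centralizer_singleton_iff.1 hm
  have hLc : ∀ x ∈ (Subgroup.closure {k : D | σ k = k⁻¹}), ∀ y ∈ (Subgroup.closure {k : D | σ k = k⁻¹}), x * y = y * x := fun x hx y hy =>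
    congrArg Subtype.val (commutative_of_cyclic_center_quotient φ hkc ⟨x, hx⟩ ⟨y, hy⟩)
  have hsub : ∀ x, σ x = x⁻¹ → x ∈ (Subgroup.closure {k : D | σ k = k⁻¹}) := fun x hx => Subgroup.subset_closure hx
  let C : Subgroup D :=
    { carrier := {x | σ x = x⁻¹}
      one_mem' := by simp
      mul_mem' := fun {x y} hx hy => by
        show σ (x * y) = (x * y)⁻¹
        rw [map_mul, (hx : σ x = x⁻¹), (hy : σ y = y⁻¹), hLc x (hsub x hx) y (hsub y hy), mul_inv_rev]
      inv_mem' := fun {x} hx => by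
        show σ x⁻¹ = x⁻¹⁻¹
        rw [map_inv, (hx : σ x = x⁻¹)] }
  refine ⟨C, fun x => Iff.rfl, ?_, ⟨fun c hc d => ?_⟩⟩
  · refine isCyclic_of_injective (φ.comp (Subgroup.inclusion (fun x hx => hsub x hx : C ≤ (Subgroup.closure {k : D | σ k = k⁻¹}))))
      ((injective_iff_map_eq_one _).2 fun c hc => Subtype.ext ?_)
    have h1 : σ (c : D) = (c : D) := (hker _ ((hφ ⟨c, hsub c c.2⟩).1 hc)).1
    have h2 : σ (c : D) = (c : D)⁻¹ := c.2
    refine eq_one_of_sq hodd ?_
    nth_rewrite 1 [← h1]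
    rw [h2, inv_mul_cancel]
  · obtain ⟨v, k, hv, hk, -, rfl⟩ := hsplit d
    have h1 : k * c * k⁻¹ = c := by rw [hLc k (hsub k hk) c (hsub c hc), mul_inv_cancel_right]
    rw [show v * k * c * (v * k)⁻¹ = v * (k * c * k⁻¹) * v⁻¹ by group, h1]
    show σ (v * c * v⁻¹) = (v * c * v⁻¹)⁻¹
    rw [map_mul, map_mul, map_inv, hv, (hc : σ c = c⁻¹)]
    group

end CfsgLib.OddTransitive
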