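import Cfsg.Agent.Lib.Blocks.Brauer.Integral
import Cfsg.Agent.Lib.ZStar.PrincipalBlock
import Cfsg.Agent.Lib.Char.Basic
import Cfsg.Agent.Lib.Blocks.Union
import Cfsg.Agent.Lib.Blocks.PrimePowerClass
import Mathlib.LinearAlgebra.Matrix.ToLin
import Mathlib.FieldTheory.IsAlgClosed.Basic

/-!
# Complex characters of linear groups of order prime to the characteristic

A faithful linear group of degree `n` over a finite field of characteristic `p`, of order prime to
`p`, has a faithful complex character of degree `n`; if moreover no nontrivial normal subgroup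
fixes a nonzero vector, it has a faithful irreducible character of degree `n` or at most `n / 2`.

Owner: helper16.
-/

set_option autoImplicit false

universe u

namespace CfsgLib.OddTransitive

open Cfsg MonoidAlgebra CfsgLib.Blocks CfsgLib.Star CfsgLib.IBr

variable {G : Type u} [Group G] [Finite G] {p : ℕ} [Fact p.Prime] {M : Ideal AlgInt} [M.IsPrime]

section Eig

/-- The sum of the eigen-idempotents is one. -/
theorem sum_eigIdem (hM : IsPModular p M) {g : G} (hg : ¬ p ∣ orderOf g) :
    ∑ j ∈ Finset.range (orderOf g), eigIdem M g j = 1 := by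
  classical
  set o := orderOf g with ho
  have ho0 : o ≠ 0 := (orderOf_pos g).ne'
  have hω := isPrimitiveRoot_rootO M ho0
  set c := rootO M o ^ (o - 1) with hc
  have hc1 : c * rootO M o = 1 := by
    rw [hc, ← pow_succ, Nat.sub_add_cancel (Nat.one_le_iff_ne_zero.2 ho0), hω.pow_eq_one]
  have hco : c ^ o = 1 := by rw [hc, ← pow_mul, mul_comm, pow_mul, hω.pow_eq_one, one_pow]
  have hO : ∑ j ∈ Finset.range o, eigO M g j = 1 := by
    simp only [eigO, ← ho, ← hc, ← Finset.smul_sum, single_pow]
    rw [Finset.sum_comm]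
    have hsum : ∀ t ∈ Finset.range o, ∑ j ∈ Finset.range o, single (g ^ t) ((c ^ j) ^ t) =
        (single (g ^ t) (if t = 0 then (o : localRing M) else 0) :
          MonoidAlgebra (localRing M) G) := by
      intro t ht
      refine ((map_sum (singleAddHom (R := localRing M) (g ^ t)) _ _).symm).trans ?_
      rw [singleAddHom_apply]
      refine congrArg (single (g ^ t)) ?_
      simp only [← pow_mul, mul_comm _ t]
      simp only [pow_mul]
      split_ifs with h
      · subst h; simp
      · refine geom_eq_zero (by rw [← pow_mul, mul_comm, pow_mul, hco, one_pow]) fun h1 => h ?_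
        have h2 : rootO M o ^ t = 1 := by
          have h3 : (c * rootO M o) ^ t = 1 := by rw [hc1, one_pow]
          rwa [mul_pow, h1, one_mul] at h3
        exact Nat.eq_zero_of_dvd_of_lt (hω.dvd_of_pow_eq_one _ h2) (Finset.mem_range.1 ht)
    rw [Finset.sum_congr rfl hsum, Finset.sum_eq_single 0]
    · rw [if_pos rfl, pow_zero, smul_single, smul_eq_mul, invO_mul_natCast hM (ho ▸ hg)]
      rfl
    · intro t _ ht
      rw [if_neg ht, single_zero]
    · exact fun h => absurd (Finset.mem_range.2 (Nat.pos_of_ne_zero ho0)) h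
  simp only [eigIdem]
  rw [← map_sum, hO, map_one]

omit [Fact p.Prime] in
/-- An element multiplies its eigen-idempotent by the eigenvalue. -/
theorem single_mul_eigIdem (g : G) (j : ℕ) :
    single g (1 : Res M) * eigIdem M g j =
      (resHom M (rootO M (orderOf g)) ^ j) • eigIdem M g j := by
  classical
  set o := orderOf g with ho
  have ho0 : o ≠ 0 := (orderOf_pos g).ne'
  have hω := isPrimitiveRoot_rootO M ho0
  set c := (rootO M o ^ (o - 1)) ^ j with hc
  have hcw : rootO M o ^ j * c = 1 := by
    rw [hc, ← mul_pow, ← pow_succ', Nat.sub_add_cancel (Nat.one_le_iff_ne_zero.2 ho0),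
      hω.pow_eq_one, one_pow]
  have hco : c ^ o = 1 := by
    rw [hc, ← pow_mul, ← pow_mul, mul_comm _ o, mul_comm (o - 1), mul_assoc, pow_mul, hω.pow_eq_one,
      one_pow]
  set y : MonoidAlgebra (localRing M) G := single g c with hy
  have hyo : y ^ o = 1 := single_pow_eig g c hco
  have hyS : y * ∑ t ∈ Finset.range o, y ^ t = ∑ t ∈ Finset.range o, y ^ t := by
    have h := mul_geom_sum y o
    rw [hyo, sub_self, sub_mul, one_mul, sub_eq_zero] at h
    exact h
  have hO : single g (1 : localRing M) * eigO M g j = (rootO M o ^ j) • eigO M g j := by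
    rw [eigO, ← ho, ← hc, ← hy, mul_smul_comm, smul_comm]
    congr 1
    conv_lhs => rw [← hyS, ← mul_assoc]
    conv_rhs => rw [← hyS, ← smul_mul_assoc]
    have h2 : (rootO M o ^ j) • y = single g 1 := by rw [hy, smul_single, smul_eq_mul, hcw]
    rw [h2]
    conv_lhs => rw [mul_assoc, hyS]
  have h := congrArg (red M) hO
  rw [map_mul, red_single, map_one, Algebra.smul_def, map_mul] at h
  rw [eigIdem, h, Algebra.smul_def]
  refine congrArg₂ (· * ·) ?_ rfl
  simp [red, map_pow]

/-- An element whose eigenvalue multiplicities give the value `m` acts as the identity. -/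
theorem apply_eq_one_of_brVal (hM : IsPModular p M) {m : ℕ}
    (φ : MonoidAlgebra (Res M) G →ₐ[Res M] Matrix (Fin m) (Fin m) (Res M))
    {g : G} (hg : ¬ p ∣ orderOf g)
    (h : brVal p M (fun e => ((φ e).rank : ℤ)) g = m) : φ (single g 1) = 1 := by
  classical
  set o := orderOf g with ho
  have ho0 : o ≠ 0 := (orderOf_pos g).ne'
  have hω := isPrimitiveRoot_rootO M ho0
  set w := resHom M (rootO M o) with hw
  have hroot : ∀ i < o, i ≠ 0 → rootO M o ^ i ≠ 1 := fun i hi hi0 e =>
    hi0 (Nat.eq_zero_of_dvd_of_lt (hω.dvd_of_pow_eq_one _ e) hi)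
  set e := fun j => eigIdem M g j with he
  have hidem : ∀ j, e j * e j = e j := fun j => eigIdem_sq hM hg j
  have hinj : ∀ i < o, ∀ j < o, w ^ i = w ^ j → i = j := by
    have key : ∀ a b : ℕ, a ≤ b → b < o → w ^ a = w ^ b → a = b := by
      intro a b hab hb hww
      by_contra hne
      have h1 : w ^ a * (1 - w ^ (b - a)) = 0 := by
        rw [mul_sub, mul_one, ← pow_add, Nat.add_sub_cancel' hab, hww, sub_self]
      rcases mul_eq_zero.1 h1 with h2 | h2
      · have : w ^ o = 1 := by rw [hw, ← map_pow, hω.pow_eq_one, map_one]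
        have h3 : IsUnit w := IsUnit.of_pow_eq_one this ho0
        exact (h3.pow a).ne_zero h2
      · refine hroot (b - a) (by omega) (by omega) (CfsgLib.PrimePowerClass.root_eq_one hM ho0 hg ?_ ?_)
        · rw [← pow_mul, mul_comm, pow_mul, hω.pow_eq_one, one_pow]
        · rw [map_pow]; exact (sub_eq_zero.1 h2).symm
    intro i hi j hj hww
    rcases le_total i j with hl | hl
    · exact key i j hl hj hww
    · exact (key j i hl hi hww.symm).symm
  have horth : ∀ i < o, ∀ j < o, i ≠ j → φ (e i) * φ (e j) = 0 := by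
    intro i hi j hj hij
    set X := φ (single g (1 : Res M))
    have hX : ∀ k, X * φ (e k) = (w ^ k) • φ (e k) := fun k => by
      rw [← map_mul, single_mul_eigIdem, map_smul]
    have hc : X * φ (e i) = φ (e i) * X := by
      rw [← map_mul, ← map_mul]
      refine congrArg φ ?_
      simp only [he, eigIdem, eigO, Algebra.smul_def, map_mul, map_sum, Finset.mul_sum,
        Finset.sum_mul]
      refine Finset.sum_congr rfl fun t _ => ?_
      simp [single_pow, red, red_single, single_mul_single, mul_comm, (Commute.self_pow g t).eq]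
    have h1 : (w ^ i - w ^ j) • (φ (e i) * φ (e j)) = 0 := by
      rw [sub_smul, ← smul_mul_assoc, ← mul_smul_comm, ← hX i, ← hX j, hc, mul_assoc, sub_self]
    exact (smul_eq_zero.1 h1).resolve_left (sub_ne_zero.2 fun hh => hij (hinj i hi j hj hh))
  have hrank : ∀ s ⊆ Finset.range o,
      (∑ j ∈ s, φ (e j)) * ∑ j ∈ s, φ (e j) = ∑ j ∈ s, φ (e j) ∧
      ((∑ j ∈ s, φ (e j)).rank : ℤ) = ∑ j ∈ s, ((φ (e j)).rank : ℤ) := by
    intro s hs
    induction s using Finset.induction with
    | empty => simp [Matrix.rank_zero]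
    | insert a s has ih =>
      obtain ⟨hsa, hss⟩ := Finset.insert_subset_iff.1 hs
      obtain ⟨hid, hr⟩ := ih hss
      have ha : φ (e a) * φ (e a) = φ (e a) := by rw [← map_mul, hidem]
      have h1 : φ (e a) * ∑ j ∈ s, φ (e j) = 0 := by
        rw [Finset.mul_sum]
        exact Finset.sum_eq_zero fun j hj => horth a (Finset.mem_range.1 hsa) j
          (Finset.mem_range.1 (hss hj)) fun e => has (e ▸ hj)
      have h2 : (∑ j ∈ s, φ (e j)) * φ (e a) = 0 := by
        rw [Finset.sum_mul]
        exact Finset.sum_eq_zero fun j hj => horth j (Finset.mem_range.1 (hss hj)) a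
          (Finset.mem_range.1 hsa) fun e => has (e ▸ hj)
      rw [Finset.sum_insert has, Finset.sum_insert has]
      refine ⟨?_, ?_⟩
      · simp only [add_mul, mul_add, ha, hid, h1, h2, add_zero, zero_add]
      · rw [rank_add_of_orthogonal ha hid h1 h2, Nat.cast_add, hr]
  have hone : ∑ j ∈ Finset.range o, φ (e j) = 1 := by
    rw [← map_sum, ho, sum_eigIdem hM hg, map_one]
  have hsum : ∑ j ∈ Finset.range o, ((φ (e j)).rank : ℤ) = m := by
    rw [← (hrank _ subset_rfl).2, hone, Matrix.rank_one, Fintype.card_fin]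
  rw [brVal_of_regular hg] at h
  have hre := congrArg Complex.re h
  rw [Complex.re_sum, Complex.natCast_re] at hre
  have hrow : ∀ j ∈ Finset.range o,
      ((rootO M o : ℂ) ^ j * (((φ (e j)).rank : ℤ) : ℂ)).re ≤ (((φ (e j)).rank : ℤ) : ℝ) := by
    intro j _
    rw [Complex.mul_re, Complex.intCast_re, Complex.intCast_im, mul_zero, sub_zero]
    refine mul_le_of_le_one_left (by positivity) ((Complex.re_le_norm _).trans ?_)
    refine (Complex.norm_eq_one_of_pow_eq_one (n := o) ?_ ho0).le
    rw [← pow_mul, mul_comm, pow_mul]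
    have := congrArg Subtype.val hω.pow_eq_one
    push_cast at this
    rw [this, one_pow]
  have heq : ∀ j ∈ Finset.range o,
      ((rootO M o : ℂ) ^ j * (((φ (e j)).rank : ℤ) : ℂ)).re = (((φ (e j)).rank : ℤ) : ℝ) := by
    refine (Finset.sum_eq_sum_iff_of_le hrow).1 ?_
    rw [hre]
    exact_mod_cast hsum.symm
  have hzero : ∀ j ∈ Finset.range o, j ≠ 0 → φ (e j) = 0 := by
    intro j hj hj0
    have h1 := heq j hj
    rw [Complex.mul_re, Complex.intCast_re, Complex.intCast_im, mul_zero, sub_zero] at h1
    by_contra hne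
    have hr : 0 < (φ (e j)).rank := by
      refine Nat.pos_of_ne_zero fun h0 => hne ?_
      rw [Matrix.rank, Submodule.finrank_eq_zero, LinearMap.range_eq_bot] at h0
      exact Matrix.toLin'.injective (by rw [map_zero]; exact h0)
    have h2 : ((rootO M o : ℂ) ^ j).re = 1 := by
      have h3 : (0 : ℝ) < (((φ (e j)).rank : ℤ) : ℝ) := by exact_mod_cast hr
      exact mul_right_cancel₀ h3.ne' (h1.trans (one_mul _).symm)
    have h4 : ‖(rootO M o : ℂ) ^ j‖ = 1 := Complex.norm_eq_one_of_pow_eq_one (n := o) (by
      rw [← pow_mul, mul_comm, pow_mul]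
      have := congrArg Subtype.val hω.pow_eq_one
      push_cast at this
      rw [this, one_pow]) ho0
    have h5 : (rootO M o : ℂ) ^ j = 1 := by
      refine Complex.ext (by simpa using h2) ?_
      have h6 := Complex.sq_norm ((rootO M o : ℂ) ^ j)
      rw [h4, Complex.normSq_apply, h2] at h6
      simp only [Complex.one_im]
      exact mul_self_eq_zero.1 (by linarith)
    exact hroot j (Finset.mem_range.1 hj) hj0 (Subtype.ext (by push_cast; exact h5))
  have h0 : φ (e 0) = 1 := by
    rw [← hone, Finset.sum_eq_single 0 (fun j hj hj0 => hzero j hj hj0)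
      (fun h => absurd (Finset.mem_range.2 (Nat.pos_of_ne_zero ho0)) h)]
  calc φ (single g 1) = φ (single g 1) * φ (e 0) := by rw [h0, mul_one]
    _ = 1 := by rw [← map_mul, single_mul_eigIdem, pow_zero, one_smul, h0]

end Eig

section Lift

omit [M.IsPrime] in
/-- A finite field of characteristic `p` embeds in the residue field. -/
theorem exists_embedding [M.IsPrime] (hM : IsPModular p M) (F : Type*) [Field F] [Finite F]
    [CharP F p] : Nonempty (F →+* Res M) := by
  haveI : IsAlgClosed (Res M) := isAlgClosed_res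
  haveI : CharP (Res M) p := charP_residueField hM
  letI := ZMod.algebra F p
  letI := ZMod.algebra (Res M) p
  haveI : Module.Finite (ZMod p) F := Module.Finite.of_finite
  exact ⟨(IsAlgClosed.lift : F →ₐ[ZMod p] Res M).toRingHom⟩

variable {F : Type*} [Field F] [Finite F] [CharP F p] {V : Type*} [AddCommGroup V] [Module F V]
  [Module.Finite F V]

omit [M.IsPrime] in
/-- The faithful irreducible character of degree the dimension or at most half of it, and the
faithful character of degree the dimension. -/
theorem exists_lift_char (ρ : G →* Module.End F V) (hρ : Function.Injective ρ)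
    (hp : ¬ p ∣ Nat.card G) :
    (∃ χ : G → ℂ, IsCharacter G χ ∧ charDegree χ = Module.finrank F V ∧
      (∀ g, χ g = χ 1 → g = 1) ∧
      (Module.finrank F V ≤ 2 → Odd (Nat.card G) → ∀ a b : G, a * b = b * a)) ∧
    (0 < Module.finrank F V →
      (∀ K : Subgroup G, K.Normal → K ≠ ⊥ → ∀ v : V, (∀ k ∈ K, ρ k v = v) → v = 0) →
      ∃ χ : IrrCharacter G, (∀ g, (χ : G → ℂ) g = (χ : G → ℂ) 1 → g = 1) ∧
        (2 * charDegree (χ : G → ℂ) ≤ Module.finrank F V ∨
          charDegree (χ : G → ℂ) = Module.finrank F V)) := by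
  classical
  obtain ⟨M, hM⟩ := CfsgLib.ZStar.exists_isPModular (Fact.out : p.Prime)
  haveI : M.IsPrime := hM.2.1.isPrime
  obtain ⟨ι⟩ := exists_embedding (p := p) hM F
  haveI := Fintype.ofFinite G
  obtain ⟨D⟩ := nonempty_data (G := G) (M := M)
  set n := Module.finrank F V with hn
  let b := Module.finBasis F V
  let toMat : Module.End F V →ₐ[F] Matrix (Fin n) (Fin n) F :=
    (LinearMap.toMatrixAlgEquiv b).toAlgHom
  let ρF : G →* Matrix (Fin n) (Fin n) F := (AlgHom.toRingHom toMat).toMonoidHom.comp ρ
  let ρK : G →* Matrix (Fin n) (Fin n) (Res M) := (RingHom.toMonoidHom ι.mapMatrix).comp ρF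
  let φ := MonoidAlgebra.lift (Res M) (Matrix (Fin n) (Fin n) (Res M)) G ρK
  have hφ : ∀ g, φ (single g 1) = (toMat (ρ g)).map ι := fun g => by
    simp [φ, ρK, ρF, MonoidAlgebra.lift_single]
  have hρK : Function.Injective ρK := fun a c h => hρ ((LinearMap.toMatrixAlgEquiv b).injective
    (Matrix.map_injective ι.injective h))
  set N : MonoidAlgebra (Res M) G → ℤ := fun e => ((φ e).rank : ℤ) with hNdef
  have hN : ∀ e, e * e = e → N e = ∑ δ, D.rk δ e * N (D.ε δ) :=
    additive_eq_sum_rank D.surj D.nil D.hε D.hεψ N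
      (fun e f he hf hef hfe => by
        simp only [N, map_add]
        rw [rank_add_of_orthogonal (by rw [← map_mul, he]) (by rw [← map_mul, hf])
          (by rw [← map_mul, hef, map_zero]) (by rw [← map_mul, hfe, map_zero]), Nat.cast_add])
      (fun a c h1 h2 => by
        simp only [N, map_mul]
        rw [rank_mul_comm_of_idem (by simp only [← map_mul, h1]) (by simp only [← map_mul, h2])])
  have hreg : ∀ g : G, ¬ p ∣ orderOf g := fun g h => hp (h.trans (orderOf_dvd_natCard g))
  set χ := brVal p M N with hχdef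
  have hsum := brVal_eq_sum hM D hN
  rw [← hχdef] at hsum
  set c : Fin D.n → ℕ := fun δ => (φ (D.ε δ)).rank with hc
  have hsum' : χ = ∑ δ, (c δ : ℂ) • D.phi p δ := by
    rw [hsum]
    exact Finset.sum_congr rfl fun δ _ => by simp [hc, hNdef]
  have hirr := fun δ => phi_isIrr_of_not_dvd hM D hp δ
  have hdn : ∑ δ, c δ * D.d δ = n := by
    have h := hN 1 (one_mul 1)
    simp only [D.rk_one] at h
    have h1 : N 1 = (n : ℤ) := by simp [N, Matrix.rank_one]
    rw [h1] at h
    have h2 : (n : ℤ) = ∑ δ, ((c δ * D.d δ : ℕ) : ℤ) := h.trans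
      (Finset.sum_congr rfl fun δ _ => by simp [hc, hNdef, mul_comm])
    exact_mod_cast h2.symm
  have hchar : IsCharacter G χ := by
    rw [hsum']
    exact Char.IsChar.sum _ _ fun δ _ => Char.IsChar.natCast_smul _ (Char.IsIrr.isCharacter (hirr δ))
  have hone : χ 1 = n := by
    rw [hsum', Finset.sum_apply, ← hdn]
    push_cast
    exact Finset.sum_congr rfl fun δ _ => by rw [Pi.smul_apply, D.phi_one hM, smul_eq_mul]
  have hfaith : ∀ g, χ g = χ 1 → g = 1 := fun g hg => by
    have h := apply_eq_one_of_brVal hM φ (hreg g) (hg.trans hone)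
    refine hρK ?_
    rw [map_one, ← h]
    simp [φ, MonoidAlgebra.lift_single]
  have hdeg : ∀ δ, charDegree (D.phi p δ) = D.d δ := fun δ =>
    CfsgLib.Blocks.charDegree_eq (χ := ⟨_, hirr δ⟩) (D.phi_one hM δ)
  refine ⟨⟨χ, hchar, by rw [charDegree, hone]; simp, hfaith, fun hn2 hodd a e => ?_⟩,
    fun hpos hfix => ?_⟩
  · have h1 : ∀ δ, c δ ≠ 0 → D.d δ = 1 := by
      intro δ hδ
      have hle : D.d δ ≤ 2 := by
        refine le_trans ?_ hn2
        rw [← hdn]
        exact le_trans (Nat.le_mul_of_pos_left _ (Nat.pos_of_ne_zero hδ))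
          (Finset.single_le_sum (f := fun δ => c δ * D.d δ) (fun _ _ => Nat.zero_le _)
            (Finset.mem_univ δ))
      have hdvd : D.d δ ∣ Nat.card G := hdeg δ ▸ CfsgLib.Blocks.charDegree_dvd_card ⟨_, hirr δ⟩
      have := hodd.of_dvd_nat hdvd
      interval_cases h : D.d δ
      · exact absurd this (by decide)
      · rfl
      · exact absurd this (by decide)
    have hcomm : a * e * a⁻¹ * e⁻¹ = 1 := by
      refine hfaith _ ?_
      rw [hsum', Finset.sum_apply, Finset.sum_apply]
      refine Finset.sum_congr rfl fun δ _ => ?_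
      simp only [Pi.smul_apply, smul_eq_mul]
      by_cases hδ : c δ = 0
      · simp [hδ]
      obtain ⟨l, hl⟩ := Char.exists_linear_of_degree_one (Char.IsIrr.isCharacter (hirr δ))
        (by rw [D.phi_one hM δ, h1 δ hδ, Nat.cast_one])
      rw [hl]
      simp
    rwa [mul_inv_eq_one, mul_inv_eq_iff_eq_mul] at hcomm
  · obtain ⟨δ, hδ, hmin⟩ : ∃ δ, c δ ≠ 0 ∧ (2 * D.d δ ≤ n ∨ D.d δ = n) := by
      obtain ⟨δ, -, hδ⟩ : ∃ δ ∈ Finset.univ, c δ * D.d δ ≠ 0 := Finset.exists_ne_zero_of_sum_ne_zero
        (by rw [hdn]; omega)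
      obtain ⟨hcδ, -⟩ := mul_ne_zero_iff.1 hδ
      by_contra hcon
      push Not at hcon
      obtain ⟨h2, hne⟩ := hcon δ hcδ
      have hsingle := Finset.single_le_sum (f := fun δ => c δ * D.d δ) (fun _ _ => Nat.zero_le _)
        (Finset.mem_univ δ)
      beta_reduce at hsingle
      rw [hdn] at hsingle
      have hlt : c δ * D.d δ < n := by
        refine lt_of_le_of_ne hsingle fun heq => ?_
        rcases (show c δ = 1 ∨ 2 ≤ c δ by omega) with h | h
        · rw [h, one_mul] at heq
          exact hne heq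
        · have := Nat.mul_le_mul_right (D.d δ) h
          omega
      have herase := Finset.add_sum_erase Finset.univ (fun δ => c δ * D.d δ) (Finset.mem_univ δ)
      beta_reduce at herase
      rw [hdn] at herase
      obtain ⟨δ', hδ', hδ'0⟩ := Finset.exists_ne_zero_of_sum_ne_zero
        (s := Finset.univ.erase δ) (f := fun δ => c δ * D.d δ) (by omega)
      obtain ⟨hcδ', -⟩ := mul_ne_zero_iff.1 hδ'0
      obtain ⟨h2', -⟩ := hcon δ' hcδ'
      have hs' := Finset.single_le_sum (f := fun δ => c δ * D.d δ) (fun _ _ => Nat.zero_le _) hδ'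
      beta_reduce at hs'
      have h3 := Nat.le_mul_of_pos_left (D.d δ) (Nat.pos_of_ne_zero hcδ)
      have h4 := Nat.le_mul_of_pos_left (D.d δ') (Nat.pos_of_ne_zero hcδ')
      omega
    refine ⟨⟨_, hirr δ⟩, fun g hg => ?_, by simpa only [hdeg] using hmin⟩
    by_contra hg1
    let K : Subgroup G := Subgroup.normalClosure {g}
    have hK : K ≠ ⊥ := fun e =>
      hg1 (Subgroup.mem_bot.1 (e ▸ Subgroup.subset_normalClosure (Set.mem_singleton g)))
    let φδ := (Pi.evalAlgHom (Res M) (fun i => Matrix (Fin (D.d i)) (Fin (D.d i)) (Res M)) δ).comp D.ψ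
    have hker : ∀ k ∈ K, φδ (single k 1) = 1 := by
      have hnorm : K ≤ (φδ.toRingHom.toMonoidHom.comp (MonoidAlgebra.of (Res M) G)).ker := by
        refine Subgroup.normalClosure_le_normal ?_
        intro k hk
        rw [Set.mem_singleton_iff] at hk
        subst hk
        refine (MonoidHom.mem_ker).2 ?_
        exact apply_eq_one_of_brVal hM φδ (hreg k) (hg.trans (D.phi_one hM δ))
      exact fun k hk => hnorm hk
    have hKp : ((Nat.card K : ℕ) : Res M) ≠ 0 := fun h => by
      haveI : CharP (Res M) p := charP_residueField hM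
      exact hp (((CharP.cast_eq_zero_iff (Res M) p _).1 h).trans K.card_subgroup_dvd_card)
    haveI := Fintype.ofFinite K
    set σ : MonoidAlgebra (Res M) G := ∑ k : K, single (k : G) 1 with hσ
    have hσ0 : φ σ ≠ 0 := by
      intro h0
      set e := (Nat.card K : Res M)⁻¹ • σ with hedef
      have hσσ : σ * σ = (Nat.card K : Res M) • σ := by
        rw [hσ, Finset.sum_mul, Nat.cast_smul_eq_nsmul, Nat.card_eq_fintype_card,
          ← Finset.card_univ, ← Finset.sum_const]
        refine Finset.sum_congr rfl fun k _ => ?_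
        rw [Finset.mul_sum]
        refine Fintype.sum_equiv (Equiv.mulLeft k) _ _ fun l => ?_
        simp [single_mul_single]
      have hee : e * e = e := by
        rw [hedef, smul_mul_smul_comm, hσσ, smul_smul, mul_assoc, inv_mul_cancel₀ hKp, mul_one]
      have hN0 : N e = 0 := by simp [N, hedef, map_smul, h0, Matrix.rank_zero]
      have hrk : D.rk δ e = D.d δ := by
        have : φδ e = 1 := by
          rw [hedef, map_smul, hσ, map_sum, Finset.sum_congr rfl fun (k : K) _ => hker (k : G) k.2,
            Finset.sum_const, Finset.card_univ, ← Nat.card_eq_fintype_card,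
            ← Nat.cast_smul_eq_nsmul (Res M), smul_smul, inv_mul_cancel₀ hKp, one_smul]
        show ((φδ e).rank : ℤ) = _
        rw [this, Matrix.rank_one, Fintype.card_fin]
      have h := hN e hee
      rw [hN0] at h
      have hz := (Finset.sum_eq_zero_iff_of_nonneg fun i _ => ?_).1 h.symm δ (Finset.mem_univ δ)
      · rw [hrk] at hz
        rcases mul_eq_zero.1 hz with hz | hz
        · exact (NeZero.ne (D.d δ)) (by exact_mod_cast hz)
        · exact hδ (by simpa [hc, hNdef] using hz)
      · exact mul_nonneg (Int.natCast_nonneg _) (Int.natCast_nonneg _)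
    have hT : (∑ k : K, ρ (k : G)) ≠ 0 := by
      intro h0
      refine hσ0 ?_
      rw [hσ, map_sum, Finset.sum_congr rfl fun (k : K) _ => hφ k]
      have h1 := congrArg (fun T => (toMat T).map ι) h0
      simp only [map_sum, map_zero, Matrix.map_zero _ (map_zero ι)] at h1
      rw [← h1]
      exact (map_sum ι.mapMatrix (fun k : K => toMat (ρ (k : G))) Finset.univ).symm
    obtain ⟨v, hv⟩ : ∃ v, (∑ k : K, ρ (k : G)) v ≠ 0 := by
      by_contra hall
      push Not at hall
      exact hT (LinearMap.ext hall)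
    refine hv (hfix K inferInstance hK _ fun k hk => ?_)
    rw [LinearMap.sum_apply, map_sum]
    refine Fintype.sum_equiv (Equiv.mulLeft (⟨k, hk⟩ : K)) _ _ fun l => ?_
    simp [map_mul]

end Lift

end CfsgLib.OddTransitive
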