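import Cfsg.Agent.Lib.ClassSizes.OddTransitive.Basic
import Cfsg.Agent.Lib.LocalEven.PrimitivePart
import Cfsg.Agent.Lib.CharDegree.Basic
import Cfsg.Agent.Lib.Char.Burnside
import Cfsg.Agent.Lib.Core.Nilpotent
import Cfsg.Agent.Lib.Core.Cores
import Cfsg.Agent.Lib.Components.Radicals
import Cfsg.Agent.Lib.Core.PLengthTwoMaximal
import Cfsg.Agent.S0899
import Cfsg.Agent.S4468
import Cfsg.Agent.S4485
import Cfsg.Agent.S4503
import Mathlib.GroupTheory.Transfer
import Mathlib.LinearAlgebra.Matrix.GeneralLinearGroup.Card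

/-!
# Groups of odd order transitive on the nonzero vectors (Huppert), without the odd order theorem

A prime `s` with `2` of order at least half the dimension modulo `s` has a normal Sylow subgroup by
the degree bounds for linear groups; the centraliser of its socle is then abelian.

Owner: helper16.
-/

set_option autoImplicit false

universe u v

namespace CfsgLib.OddTransitive

open Cfsg

section Criteria

variable {D : Type u} [Group D] [Finite D]

/-- A small faithful degree forces a normal Sylow subgroup. -/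
theorem normal_of_degree_lt {χ : D → ℂ} (hχ : IsCharacter D χ)
    (hf : ∀ g, χ g = χ 1 → g = 1) {s : ℕ} [Fact s.Prime] (hd : 2 * charDegree χ + 1 < s)
    (P : Sylow s D) : (P : Subgroup D).Normal := by
  obtain ⟨m, ρ, rfl⟩ := id hχ
  have hm : charDegree ρ.character = m := CfsgLib.CharDegree.charDegree_eq_of_apply_one (by simp)
  rw [hm] at hd
  have hρ : Function.Injective ρ := fun a b h => by
    have h1 : ρ (a⁻¹ * b) = 1 := by rw [map_mul, ← h, ← map_mul, inv_mul_cancel, map_one]
    exact inv_mul_eq_one.1 (hf (a⁻¹ * b) (by simp [Representation.character, h1]))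
  refine Cfsg.Agent.S0899.result m ρ hρ s (Or.inr ⟨by omega, fun K hK Q => ?_⟩) P
  by_cases hsK : s ∣ Nat.card K
  · have hQ : Nat.card (Q : Subgroup K) = s := by
      obtain ⟨i, hi⟩ := IsPGroup.iff_card.1 Q.isPGroup'
      have h1 := Q.dvd_card_of_dvd_card hsK
      have h2 : Nat.card (Q : Subgroup K) ∣ Nat.card K := Subgroup.card_subgroup_dvd_card _
      rw [hi] at h1 h2 ⊢
      rcases i with _ | _ | i
      · exact absurd (Nat.eq_one_of_dvd_one h1) (Fact.out : s.Prime).ne_one
      · rw [pow_one]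
      · exact absurd ((pow_dvd_pow s (by omega)).trans h2) hK
    by_contra hQn
    have hb := Cfsg.Agent.S4503.result (G := K) s Fact.out hsK hK (fun H hH hc => hQn (by
      obtain ⟨Q', hQ'⟩ := IsPGroup.exists_le_sylow (IsPGroup.of_card (n := 1) (by rw [pow_one, hc]) :
        IsPGroup s H)
      obtain ⟨i, hi⟩ := IsPGroup.iff_card.1 Q'.isPGroup'
      have hQ'c : Nat.card (Q' : Subgroup K) = s := by
        rw [Sylow.card_eq_multiplicity, ← Sylow.card_eq_multiplicity Q, hQ]
      have hQ'e : H = (Q' : Subgroup K) := Subgroup.eq_of_le_of_card_ge hQ' (by rw [hQ'c, hc])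
      have := Sylow.unique_of_normal Q' (hQ'e ▸ hH)
      rw [Subsingleton.elim Q Q', ← hQ'e]
      exact hH)) (fun k : K => ρ.character (k : D))
      ⟨m, ρ.comp K.subtype, rfl⟩ (fun g hg => Subtype.ext (hf g hg))
    have hdK : charDegree (fun k : K => ρ.character (k : D)) = m :=
      CfsgLib.CharDegree.charDegree_eq_of_apply_one (by simp)
    omega
  · have : (Q : Subgroup K) = ⊥ := Subgroup.eq_bot_of_card_eq _ (by
      obtain ⟨i, hi⟩ := IsPGroup.iff_card.1 Q.isPGroup'
      rcases i with _ | i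
      · rw [hi, pow_zero]
      · exact absurd ((dvd_pow_self s (Nat.succ_ne_zero i)).trans
          (hi ▸ Subgroup.card_subgroup_dvd_card _)) hsK)
    rw [this]
    exact Subgroup.normal_bot

end Criteria

section Setting

variable {D : Type u} {E : Type v} [Group D] [Finite D] [AddCommGroup E] [Finite E] [Nontrivial E]
  [DistribMulAction D E] [FaithfulSMul D E]

/-- The setting: `D` of odd order transitive on the nonzero vectors of a binary space. -/
structure Data (D : Type u) (E : Type v) [Group D] [AddCommGroup E] [DistribMulAction D E]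
    (n : ℕ) : Prop where
  odd : Odd (Nat.card D)
  two : ∀ e : E, 2 • e = 0
  trans : ∀ a b : E, a ≠ 0 → b ≠ 0 → ∃ d : D, d • a = b
  card : Nat.card E = 2 ^ n

variable {n : ℕ}

theorem Data.dvd_card (h : Data D E n) : 2 ^ n - 1 ∣ Nat.card D := by
  classical
  obtain ⟨v, hv⟩ := exists_ne (0 : E)
  have horb : MulAction.orbit D v = {w : E | w ≠ 0} := by
    ext w
    constructor
    · rintro ⟨d, rfl⟩
      exact fun hd => hv ((smul_eq_zero_iff_eq d).1 hd)
    · exact fun hw => h.trans v w hv hw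
  have h1 := Nat.card_congr (MulAction.orbitEquivQuotientStabilizer D v)
  rw [← Subgroup.index, horb] at h1
  have h2 : Nat.card ({w : E | w ≠ 0} : Set E) = 2 ^ n - 1 := by
    rw [Nat.card_coe_set_eq, show {w : E | w ≠ 0} = ({0} : Set E)ᶜ from rfl,
      Set.ncard_compl, Set.ncard_singleton, h.card]
  rw [← h2, h1]
  exact Subgroup.index_dvd_card _

theorem Data.n_pos (h : Data D E n) : 0 < n := by
  by_contra h0
  have := Finite.one_lt_card_iff_nontrivial.2 (inferInstance : Nontrivial E)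
  rw [h.card, show n = 0 by omega] at this
  omega

/-- Facts on characters. -/
theorem Data.char_bounds (h : Data D E n) :
    (∃ χ : D → ℂ, IsCharacter D χ ∧ charDegree χ = n ∧ (∀ g, χ g = χ 1 → g = 1) ∧
      (n ≤ 2 → ∀ a b : D, a * b = b * a)) ∧
    ∃ χ : D → ℂ, IsCharacter D χ ∧ (∀ g, χ g = χ 1 → g = 1) ∧ charDegree χ ≤ n ∧
      Odd (charDegree χ) ∧ (Even n → 2 * charDegree χ ≤ n) := by
  classical
  letI : Module (ZMod 2) E := AddCommGroup.zmodModule h.two
  haveI : Module.Finite (ZMod 2) E := Module.Finite.of_finite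
  let ρ : D →* Module.End (ZMod 2) E :=
    { toFun := fun g => AddMonoidHom.toZModLinearMap 2 (DistribSMul.toAddMonoidHom E g)
      map_one' := LinearMap.ext fun e => one_smul D e
      map_mul' := fun a b => LinearMap.ext fun e => mul_smul a b e }
  have hρ : Function.Injective ρ := fun a b e =>
    FaithfulSMul.eq_of_smul_eq_smul fun w : E => LinearMap.congr_fun e w
  have hfin : Module.finrank (ZMod 2) E = n := by
    have h1 := Module.natCard_eq_pow_finrank (K := ZMod 2) (V := E)
    rw [h.card, Nat.card_zmod] at h1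
    exact (Nat.pow_right_injective le_rfl h1).symm
  obtain ⟨⟨χ, hχ, hd, hf, hc⟩, h2⟩ := exists_lift_char (p := 2) ρ hρ h.odd.not_two_dvd_nat
  refine ⟨⟨χ, hχ, hd.trans hfin, hf, fun hn => hc (by omega) h.odd⟩, ?_⟩
  obtain ⟨ψ, hψf, hψd⟩ := h2 (by rw [hfin]; exact h.n_pos) (fun K hK hKb v hv => by
    by_contra hv0
    refine hKb (eq_bot_iff.2 fun k hk => Subgroup.mem_bot.2 ?_)
    refine FaithfulSMul.eq_of_smul_eq_smul fun w : E => ?_
    rw [one_smul]
    by_cases hw : w = 0
    · rw [hw, smul_zero]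
    obtain ⟨d, rfl⟩ := h.trans v w hv0 hw
    have h1 : (d⁻¹ * k * d) • v = v := hv _ (by
      simpa using hK.conj_mem k hk d⁻¹)
    rw [mul_smul, mul_smul, inv_smul_eq_iff] at h1
    exact h1)
  have hodd : Odd (charDegree (ψ : D → ℂ)) := h.odd.of_dvd_nat (CfsgLib.CharDegree.charDegree_dvd_card ψ)
  rw [hfin] at hψd
  refine ⟨ψ, Char.IsIrr.isCharacter ψ.2, hψf, by omega, hodd, fun he => ?_⟩
  rcases hψd with h3 | h3
  · exact h3
  · exact absurd he (Nat.not_even_iff_odd.2 (h3 ▸ hodd))

/-- The element we are looking for. -/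
def Good (D : Type u) [Group D] : Prop :=
  ∃ x : D, (∃ s, s.Prime ∧ orderOf x = s) ∧ (Subgroup.zpowers x).Normal ∧
    ∀ g ∈ Subgroup.centralizer ({x} : Set D), ∀ h ∈ Subgroup.centralizer ({x} : Set D),
      g * h = h * g

/-- A normal Sylow subgroup contains a normal subgroup of prime order. -/
theorem Data.exists_normal_prime (h : Data D E n) {s : ℕ} [hs : Fact s.Prime]
    (hdvd : s ∣ Nat.card D) (P : Sylow s D) (hP : (P : Subgroup D).Normal) :
    ∃ x : D, orderOf x = s ∧ (Subgroup.zpowers x).Normal ∧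
      Inj (E := E) ((Subgroup.zpowers x : Subgroup D) : Set D) := by
  classical
  haveI : Nontrivial (P : Subgroup D) :=
    Finite.one_lt_card_iff_nontrivial.1 (lt_of_lt_of_le hs.out.one_lt
      (Nat.le_of_dvd Nat.card_pos (P.dvd_card_of_dvd_card hdvd)))
  set Z : Subgroup D := (Subgroup.center (P : Subgroup D)).map (P : Subgroup D).subtype with hZ
  haveI : Z.Normal := by rw [hZ]; exact ConjAct.normal_of_characteristic_of_normal
  have hZc : ∀ g ∈ Z, ∀ k ∈ Z, g * k = k * g := by
    rintro _ ⟨g, hg, rfl⟩ _ ⟨k, -, rfl⟩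
    exact congrArg Subtype.val (Subgroup.mem_center_iff.1 hg k).symm
  obtain ⟨hcyc, hfpf⟩ := cyclic_semiregular (E := E) Z hZc (inj_of_normal h.trans Z hZc)
  have hZs : s ∣ Nat.card Z := by
    have hZ1 : Nat.card Z = Nat.card (Subgroup.center (P : Subgroup D)) :=
      Nat.card_congr (Subgroup.equivMapOfInjective _ _ Subtype.val_injective).symm.toEquiv
    obtain ⟨i, hi⟩ := IsPGroup.iff_card.1 (P.isPGroup'.to_subgroup (Subgroup.center (P : Subgroup D)))
    haveI := P.isPGroup'.center_nontrivial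
    have := Finite.one_lt_card (α := Subgroup.center (P : Subgroup D))
    rw [hZ1, hi]
    exact dvd_pow_self s (by rintro rfl; rw [hi, pow_zero] at this; omega)
  obtain ⟨x, hx⟩ := exists_prime_orderOf_dvd_card' (G := Z) s hZs
  have hxD : orderOf (x : D) = s := by rw [Subgroup.orderOf_coe, hx]
  have hnorm : (Subgroup.zpowers (x : D)).Normal := by
    refine ⟨fun y hy g => ?_⟩
    obtain ⟨k, rfl⟩ := hy
    dsimp only
    rw [← conj_zpow]
    refine zpow_mem ?_ k
    let x' : Z := ⟨g * x * g⁻¹, Subgroup.Normal.conj_mem inferInstance _ x.2 g⟩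
    have hx' : orderOf x' = s := by
      rw [← hxD, ← Subgroup.orderOf_coe]
      exact (MulAut.conj g).orderOf_eq (x : D)
    have heq : Subgroup.zpowers x' = Subgroup.zpowers x := by
      refine Subgroup.eq_of_le_of_card_ge ?_ (by rw [Nat.card_zpowers, Nat.card_zpowers, hx, hx'])
      haveI := hcyc
      rw [Subgroup.zpowers_le]
      obtain ⟨z, hz⟩ := hcyc.exists_generator
      obtain ⟨a, ha⟩ := mem_powers_iff_mem_zpowers.2 (hz x)
      obtain ⟨b, hb⟩ := mem_powers_iff_mem_zpowers.2 (hz x')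
      beta_reduce at ha hb
      have hso : s ∣ orderOf z := hx ▸ orderOf_dvd_of_mem_zpowers (hz x)
      obtain ⟨c, hc⟩ := hso
      have hcs : ∀ t : ℕ, (z ^ t) ^ s = 1 → c ∣ t := fun t ht => by
        rw [← pow_mul] at ht
        have h1 := orderOf_dvd_of_pow_eq_one ht
        rw [hc, mul_comm t s] at h1
        exact Nat.dvd_of_mul_dvd_mul_left hs.out.pos h1
      obtain ⟨a', ha'⟩ := hcs a (by rw [ha, ← hx, pow_orderOf_eq_one])
      obtain ⟨b', hb'⟩ := hcs b (by rw [hb, ← hx', pow_orderOf_eq_one])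
      have hw : orderOf (z ^ c) = s := by
        rw [orderOf_pow, hc, Nat.gcd_mul_left_left, Nat.mul_div_cancel]
        exact Nat.pos_of_ne_zero fun h0 => (orderOf_pos z).ne' (by rw [hc, h0, mul_zero])
      have hxz : Subgroup.zpowers x = Subgroup.zpowers (z ^ c) :=
        Subgroup.eq_of_le_of_card_ge
          (Subgroup.zpowers_le.2 ⟨a', by beta_reduce; rw [zpow_natCast, ← pow_mul, ← ha', ha]⟩)
          (by rw [Nat.card_zpowers, Nat.card_zpowers, hw, hx])
      rw [hxz]
      exact ⟨b', by beta_reduce; rw [zpow_natCast, ← pow_mul, ← hb', hb]⟩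
    obtain ⟨k, hk⟩ : x' ∈ Subgroup.zpowers x := heq ▸ Subgroup.mem_zpowers x'
    exact ⟨k, congrArg Subtype.val hk⟩
  exact ⟨(x : D), hxD, hnorm, (inj_of_normal h.trans Z hZc).mono
    (by intro y hy; exact (Subgroup.zpowers_le.2 x.2 : Subgroup.zpowers (x : D) ≤ Z) hy)⟩

theorem Data.good_of_normal (h : Data D E n) {s : ℕ} [Fact s.Prime] (hdvd : s ∣ Nat.card D)
    (P : Sylow s D) (hP : (P : Subgroup D).Normal) (hs : n ≤ 2 * orderOf (2 : ZMod s)) : Good D := by
  obtain ⟨x, hx, hn, hinj⟩ := h.exists_normal_prime hdvd P hP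
  exact ⟨x, ⟨s, Fact.out, hx⟩, hn, centralizer_comm h.odd h.two h.card hx
    (hinj.mono (Set.singleton_subset_iff.2 (Subgroup.mem_zpowers x))) hs⟩

theorem Data.good_of_bound (h : Data D E n) {s : ℕ} (hs : s.Prime) (hdvd : s ∣ 2 ^ n - 1)
    (hord : n ≤ 2 * orderOf (2 : ZMod s))
    (hb : 2 * n + 1 < s ∨ (Even n ∧ ∀ d, Odd d → 2 * d ≤ n → 2 * d + 1 < s)) : Good D := by
  haveI := Fact.mk hs
  obtain ⟨⟨χ, hχ, hd, hf, -⟩, ⟨ψ, hψ, hψf, -, hψo, hψe⟩⟩ := h.char_bounds
  obtain ⟨P⟩ : Nonempty (Sylow s D) := inferInstance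
  refine h.good_of_normal (hdvd.trans h.dvd_card) P ?_ hord
  rcases hb with hb | ⟨he, hb⟩
  · exact normal_of_degree_lt hχ hf (by rw [hd]; exact hb) P
  · exact normal_of_degree_lt hψ hψf (hb _ hψo (hψe he)) P

/-- A prime whose square divides the order and modulo which `2` has order `n`. -/
theorem Data.good_of_sq (h : Data D E n) {r : ℕ} (hr : r.Prime) (hr2 : r ≠ 2)
    (hdvd : r ^ 2 ∣ 2 ^ n - 1) (hord : n ≤ orderOf (2 : ZMod r)) (hle : n < r) : Good D := by
  classical
  haveI := Fact.mk hr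
  obtain ⟨⟨χ, hχ, hd, hf, -⟩, -⟩ := h.char_bounds
  obtain ⟨R⟩ : Nonempty (Sylow r D) := inferInstance
  have hrD : r ∣ Nat.card D := ((dvd_pow_self r two_ne_zero).trans hdvd).trans h.dvd_card
  have hC : ∀ y : D, orderOf y = r → ∀ g ∈ Subgroup.centralizer ({y} : Set D),
      ∀ k ∈ Subgroup.centralizer ({y} : Set D), g * k = k * g := fun y hy =>
    centralizer_comm h.odd h.two h.card hy (inj_singleton h.card hy hord hr2) (by omega)
  haveI : Nontrivial (R : Subgroup D) :=
    Finite.one_lt_card_iff_nontrivial.1 (lt_of_lt_of_le hr.one_lt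
      (Nat.le_of_dvd Nat.card_pos (R.dvd_card_of_dvd_card hrD)))
  haveI := R.isPGroup'.center_nontrivial
  obtain ⟨i, hi⟩ := IsPGroup.iff_card.1 (R.isPGroup'.to_subgroup (Subgroup.center (R : Subgroup D)))
  have hi0 : i ≠ 0 := by
    rintro rfl
    have := Finite.one_lt_card (α := Subgroup.center (R : Subgroup D))
    rw [hi, pow_zero] at this
    omega
  obtain ⟨z, hz⟩ := exists_prime_orderOf_dvd_card' (G := Subgroup.center (R : Subgroup D)) r
    (hi ▸ dvd_pow_self r hi0)
  have hzD : orderOf ((z : (R : Subgroup D)) : D) = r := by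
    rw [Subgroup.orderOf_coe, Subgroup.orderOf_coe, hz]
  have hRab : ∀ a ∈ (R : Subgroup D), ∀ b ∈ (R : Subgroup D), a * b = b * a := by
    intro a ha b hb
    refine hC _ hzD a (Subgroup.mem_centralizer_singleton_iff.2 ?_) b
      (Subgroup.mem_centralizer_singleton_iff.2 ?_)
    · exact congrArg Subtype.val (Subgroup.mem_center_iff.1 z.2 ⟨a, ha⟩)
    · exact congrArg Subtype.val (Subgroup.mem_center_iff.1 z.2 ⟨b, hb⟩)
  have hstar : ∀ y ∈ (R : Subgroup D), y ≠ 1 → Subgroup.centralizer ({y} : Set D) =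
      Subgroup.centralizer ((R : Subgroup D) : Set D) := by
    intro y hy hy1
    refine le_antisymm ?_ (Subgroup.centralizer_le (Set.singleton_subset_iff.2 hy))
    obtain ⟨j, hj⟩ := IsPGroup.iff_orderOf.1 R.isPGroup' ⟨y, hy⟩
    have hjy : orderOf y = r ^ j := by rw [← hj, Subgroup.orderOf_mk]
    have hj0 : j ≠ 0 := fun e => hy1 (orderOf_eq_one_iff.1 (by rw [hjy, e, pow_zero]))
    have hy' : orderOf (y ^ r ^ (j - 1)) = r := by
      rw [orderOf_pow, hjy, Nat.gcd_eq_right (pow_dvd_pow r (Nat.sub_le j 1)),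
        Nat.pow_div (Nat.sub_le j 1) hr.pos, show j - (j - 1) = 1 by omega, pow_one]
    intro g hg
    refine Subgroup.mem_centralizer_iff.2 fun a ha => ?_
    refine (hC _ hy' a (Subgroup.mem_centralizer_singleton_iff.2 ?_) g
      (Subgroup.mem_centralizer_singleton_iff.2 ?_))
    · exact hRab a ha _ (pow_mem hy _)
    · exact (Commute.pow_right (Subgroup.mem_centralizer_singleton_iff.1 hg : g * y = y * g) _).eq
  obtain ⟨k, hk⟩ := IsPGroup.iff_card.1 R.isPGroup'
  have hk2 : 2 ≤ k := by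
    have h1 : r ^ 2 ∣ Nat.card (R : Subgroup D) := by
      rw [R.card_eq_multiplicity]
      exact pow_dvd_pow r ((hr.pow_dvd_iff_le_factorization Nat.card_pos.ne').1 (hdvd.trans h.dvd_card))
    rw [hk] at h1
    exact (Nat.pow_dvd_pow_iff_le_right hr.one_lt).1 h1
  have hlt : charDegree χ ^ 2 + 1 < r ^ k := by
    rw [hd]
    refine lt_of_lt_of_le ?_ (Nat.pow_le_pow_right hr.pos hk2)
    have := h.n_pos
    nlinarith
  exact h.good_of_normal hrD R (Cfsg.Agent.S4485.result r hr hrD R hstar k hk χ hχ hf hlt) (by omega)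

end Setting

end CfsgLib.OddTransitive
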